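import Groth.Agent.RedSub.K193.CommAlg
import Groth.Agent.Sga3B.ChartGood
import Groth.Agent.Sga3B.SplitCent889
import Groth.Agent.RedSub.H636.CellPts

/-!
# Ordered products of root homomorphisms and the commutator formula over an arbitrary base

`prod_inj`: the coordinates of `∏ u_{e k}(x_k)` are unique if `e` is injective and some functional is
positive on all the roots `e k`.  `exists_coords`: existence of coordinates is local.
`exists_comm`, `comm_unique`: the commutator formula, with unique constants in `Γ(S, ⊤)`.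
-/

set_option autoImplicit false
universe u

open CategoryTheory MonoidalCategory CartesianMonoidalCategory MonObj GrpObj AlgebraicGeometry

namespace Groth.Agent.RedSub.K193.Comm

open Groth.Agent.Sga3B Groth.Agent.Sga3B.Cell Groth.Agent.Sga3B.PinMod Groth.Agent.Sga3B.DSPts
  Groth.Agent.Sga3B.GaPts Groth.Agent.RedSub.H636.CellPts

section list

variable {κ : Type} [Fintype κ] {n : ℕ} (e : Fin n → κ)

/-- the elements not enumerated by `e` -/
noncomputable def rest : List κ := by
  classical exact (Finset.univ.filter (fun a => a ∉ Set.range e)).toList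

lemma not_mem_range {b : κ} (hb : b ∈ rest e) : b ∉ Set.range e := by
  classical
  unfold rest at hb
  rw [Finset.mem_toList, Finset.mem_filter] at hb
  exact hb.2

lemma nodup (he : Function.Injective e) : (List.ofFn e ++ rest e).Nodup := by
  classical
  rw [List.nodup_append]
  refine ⟨List.nodup_ofFn.2 he, Finset.nodup_toList _, ?_⟩
  intro a ha b hb hab
  subst hab
  exact not_mem_range e hb (List.mem_ofFn.1 ha)

lemma mem_list (a : κ) : a ∈ List.ofFn e ++ rest e := by
  classical
  rw [List.mem_append]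
  by_cases h : a ∈ Set.range e
  · left; exact List.mem_ofFn.2 h
  · right
    unfold rest
    rw [Finset.mem_toList, Finset.mem_filter]
    exact ⟨Finset.mem_univ _, h⟩

end list

variable {S : Scheme.{u}} {G : Over S} [GrpObj G] (D : Red.SplitRed G)

section chart

variable {R : Type u} [CommRing R] {s : Spec (CommRingCat.of R) ⟶ S} (c : Chart G s)
  {B : Type u} [CommRing B] [Algebra R B] {n : ℕ} {e : Fin n → D.idx}

/-- The coordinates of an ordered product of positive root elements are unique. -/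
theorem chart_inj (he : Function.Injective e) (lam : D.M →+ ℤ)
    (hlam : ∀ k, 0 < lam (D.P.root (e k))) {x y : Fin n → B}
    (h : (List.ofFn fun k => (c.datum D).uu (e k) B (x k)).prod =
      (List.ofFn fun k => (c.datum D).uu (e k) B (y k)).prod) : x = y := by
  classical
  obtain ⟨δ, hδ, hδ0⟩ := c.good D (List.ofFn e ++ rest e) (nodup e he) (mem_list e)
  let x' : D.idx → B := Function.extend e x 0
  let y' : D.idx → B := Function.extend e y 0
  have hx' : ∀ k, x' (e k) = x k := fun k => he.extend_apply _ _ k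
  have hy' : ∀ k, y' (e k) = y k := fun k => he.extend_apply _ _ k
  have hx0 : ∀ b, b ∉ Set.range e → x' b = 0 := fun b hb => Function.extend_apply' _ _ _ hb
  have hy0 : ∀ b, b ∉ Set.range e → y' b = 0 := fun b hb => Function.extend_apply' _ _ _ hb
  have h1 : (c.datum D).cell (List.ofFn e ++ rest e) x' 1 =
      (c.datum D).cell (List.ofFn e ++ rest e) y' 1 := by
    refine (CommAlg.cell_append (D := c.datum D) e (rest e) x'
      (fun b hb => hx0 b (not_mem_range e hb))).trans (Eq.trans ?_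
      (CommAlg.cell_append (D := c.datum D) e (rest e) y'
      (fun b hb => hy0 b (not_mem_range e hb))).symm)
    simp only [hx', hy']
    exact h
  have h2 := (Datum.cell_inj (D := c.datum D) (k := fun b => lam (D.P.root b)) hδ hδ0
    (θ := (c.datum D).cochar lam) (fun b => rfl) (y := x') (y' := y')
    (fun b hb => hx0 b (by rintro ⟨k, rfl⟩; exact absurd (hlam k) (not_lt.2 hb)))
    (fun b hb => hy0 b (by rintro ⟨k, rfl⟩; exact absurd (hlam k) (not_lt.2 hb))) h1).1
  funext k
  rw [← hx' k, ← hy' k, h2]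

end chart

section pts

variable {X : Over S} {n : ℕ} {e : Fin n → D.idx}

lemma comp_ofFn {X' : Over S} (f : X' ⟶ X) (x : Fin n → (X ⟶ Red.Ga S)) :
    f ≫ (List.ofFn fun k => x k ≫ D.u (e k)).prod =
      (List.ofFn fun k => (f ≫ x k) ≫ D.u (e k)).prod := by
  rw [← powPt_prodMap n (fun k => D.u (e k)) x, ← powPt_prodMap n (fun k => D.u (e k)),
    ← Category.assoc, comp_powPt]

/-- **The coordinates of an ordered product of positive root elements are unique.** -/
theorem prod_inj (he : Function.Injective e) (lam : D.M →+ ℤ)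
    (hlam : ∀ k, 0 < lam (D.P.root (e k))) {x y : Fin n → (X ⟶ Red.Ga S)}
    (h : (List.ofFn fun k => x k ≫ D.u (e k)).prod = (List.ofFn fun k => y k ≫ D.u (e k)).prod) :
    x = y := by
  have := D.reductive.1
  have key : ∀ (R : Type u) [CommRing R] (v : Spec (CommRingCat.of R) ⟶ X.left) (k : Fin n),
      xPt v ≫ x k = xPt v ≫ y k := by
    intro R _ v
    obtain ⟨c⟩ := exists_chart G (v ≫ X.hom)
    choose x' hx' using fun k => exists_gaP (B := R) (s := v ≫ X.hom) (xPt v ≫ x k)
    choose y' hy' using fun k => exists_gaP (B := R) (s := v ≫ X.hom) (xPt v ≫ y k)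
    have h1 : x' = y' := by
      apply chart_inj D c he lam hlam
      apply (c.pts R).injective
      rw [pts_ofFn, pts_ofFn]
      simp only [← hx', ← hy']
      rw [← comp_ofFn, ← comp_ofFn, h]
    intro k
    rw [hx', hy', h1]
  funext k
  exact hom_ext_affines _ _ fun R _ v => key R v k

theorem mono_prodMap (he : Function.Injective e) (lam : D.M →+ ℤ)
    (hlam : ∀ k, 0 < lam (D.P.root (e k))) :
    Mono (RedSub.prodMap (Red.Ga S) n (fun k => D.u (e k))) := by
  constructor
  intro X f g h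
  obtain ⟨x, rfl⟩ := exists_powPt n f
  obtain ⟨y, rfl⟩ := exists_powPt n g
  rw [powPt_prodMap, powPt_prodMap] at h
  rw [prod_inj D he lam hlam h]

/-- **Existence of coordinates is local.** -/
theorem exists_coords (he : Function.Injective e) (lam : D.M →+ ℤ)
    (hlam : ∀ k, 0 < lam (D.P.root (e k))) (g : X ⟶ G)
    (h : ∀ (R : Type u) [CommRing R] (v : Spec (CommRingCat.of R) ⟶ X.left),
      ∃ x : Fin n → (tB (v ≫ X.hom) R ⟶ Red.Ga S),
        xPt v ≫ g = (List.ofFn fun k => x k ≫ D.u (e k)).prod) :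
    ∃ x : Fin n → (X ⟶ Red.Ga S), g = (List.ofFn fun k => x k ≫ D.u (e k)).prod := by
  have := mono_prodMap D he lam hlam
  obtain ⟨z, hz⟩ := RG.BrCent.exists_factor_of_affineOpens
    (RedSub.prodMap (Red.Ga S) n (fun k => D.u (e k))) g (fun R v _ => by
      obtain ⟨x, hx⟩ := h R v
      refine ⟨(powPt n x).left, ?_⟩
      have h1 : (powPt n x ≫ RedSub.prodMap (Red.Ga S) n (fun k => D.u (e k))).left =
          (xPt v ≫ g).left := by rw [hx, powPt_prodMap]
      rw [Over.comp_left, Over.comp_left, xPt_left] at h1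
      exact h1)
  obtain ⟨x, rfl⟩ := exists_powPt n z
  exact ⟨x, by rw [← hz, powPt_prodMap]⟩

end pts

section comm

variable {n : ℕ} {e : Fin n → D.idx}

/-- the exponents are determined -/
structure Exps (e : Fin n → D.idx) (i j : Fin n → ℕ) (α β : D.idx) : Prop where
  ge_one : ∀ k, 1 ≤ i k ∧ 1 ≤ j k
  inj : Function.Injective e
  eq : ∀ k (p q : ℕ), p ≠ 0 → q ≠ 0 → p • D.P.root α + q • D.P.root β = D.P.root (e k) → p = i k ∧ q = j k
  all : ∀ (b : D.idx) (p q : ℕ), p ≠ 0 → q ≠ 0 → p • D.P.root α + q • D.P.root β = D.P.root b →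
    b ∈ Set.range e

/-- The commutator formula on affine points. -/
theorem chart_comm {i j : Fin n → ℕ} {α β : D.idx} (hE : Exps D e i j α β) (lam : D.M →+ ℤ)
    (hα : 0 < lam (D.P.root α)) (hβ : 0 < lam (D.P.root β))
    {R : Type u} [CommRing R] {s : Spec (CommRingCat.of R) ⟶ S} (c : Chart G s) :
    ∃ C : Fin n → R, ∀ (B : Type u) [CommRing B] [Algebra R B] (x y : B),
      (gaP s x ≫ D.u α) * (gaP s y ≫ D.u β) * (gaP s x ≫ D.u α)⁻¹ =
        (gaP s y ≫ D.u β) *
          (List.ofFn fun k => gaP s (algebraMap R B (C k) * x ^ i k * y ^ j k) ≫ D.u (e k)).prod := by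
  obtain ⟨δ, hδ, hδ0⟩ := c.good D (List.ofFn e ++ rest e) (nodup e hE.inj) (mem_list e)
  obtain ⟨C, hC⟩ := CommAlg.exists_const (D := c.datum D) e (rest e) hδ hδ0
    (fun b hb => not_mem_range e hb) i j α β lam hα hβ hE.eq hE.all
  refine ⟨C, fun B _ _ x y => ?_⟩
  have h := congrArg (c.pts B) (hC B x y)
  rw [map_mul, map_mul, map_mul, map_inv, pts_uu_gaP, pts_uu_gaP, pts_ofFn] at h
  exact h

/-- the unit point -/
noncomputable abbrev onePt (X : Over S) : X ⟶ Red.Ga S := gaPt X 1

/-- the point with coordinate a function of the base -/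
noncomputable abbrev cPt (X : Over S) (C : Γ(S, ⊤)) : X ⟶ Red.Ga S := gaPt X (X.hom.appTop C)

lemma comp_cPt {X' X : Over S} (f : X' ⟶ X) (C : Γ(S, ⊤)) : f ≫ cPt X C = cPt X' C := by
  rw [cPt, comp_gaPt]
  congr 1
  rw [← Over.w f, Scheme.Hom.comp_appTop]
  rfl

lemma comp_onePt {X' X : Over S} (f : X' ⟶ X) : f ≫ onePt X = onePt X' := by
  rw [onePt, comp_gaPt, map_one]

/-- **Uniqueness of the constants.** -/
theorem comm_unique {i j : Fin n → ℕ} {α β : D.idx} (hE : Exps D e i j α β) (lam : D.M →+ ℤ)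
    (hlam : ∀ k, 0 < lam (D.P.root (e k)))
    {C C' : Fin n → Γ(S, ⊤)}
    (h : (List.ofFn fun k => cPt (𝟙_ (Over S)) (C k) ≫ D.u (e k)).prod =
      (List.ofFn fun k => cPt (𝟙_ (Over S)) (C' k) ≫ D.u (e k)).prod) : C = C' := by
  have h1 := prod_inj D hE.inj lam hlam h
  funext k
  have h2 := congrArg Red.gaFn (congrFun h1 k)
  rw [gaFn_gaPt, gaFn_gaPt] at h2
  have h3 : ∀ x : Γ(S, ⊤), (𝟙_ (Over S)).hom.appTop x = x := by
    intro x
    change (𝟙 S : S ⟶ S).appTop x = x
    simp
  rwa [h3, h3] at h2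

/-- **Existence of the constants.** -/
theorem exists_comm {i j : Fin n → ℕ} {α β : D.idx} (hE : Exps D e i j α β) (lam : D.M →+ ℤ)
    (hα : 0 < lam (D.P.root α)) (hβ : 0 < lam (D.P.root β)) (hlam : ∀ k, 0 < lam (D.P.root (e k))) :
    ∃ C : Fin n → Γ(S, ⊤), ∀ (X : Over S) (x y : X ⟶ Red.Ga S) (z : Fin n → (X ⟶ Red.Ga S)),
      (∀ k, Red.gaFn (z k) = X.hom.appTop (C k) * Red.gaFn x ^ (i k) * Red.gaFn y ^ (j k)) →
        (x ≫ D.u α) * (y ≫ D.u β) * (x ≫ D.u α)⁻¹ =
          (y ≫ D.u β) * (List.ofFn (fun k => z k ≫ D.u (e k))).prod := by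
  have := D.reductive.1
  -- the commutator of the unit points
  let g : ∀ X : Over S, X ⟶ G := fun X => (onePt X ≫ D.u β)⁻¹ * (onePt X ≫ D.u α) * (onePt X ≫ D.u β) *
    (onePt X ≫ D.u α)⁻¹
  have hg : ∀ {X' X : Over S} (f : X' ⟶ X), f ≫ g X = g X' := by
    intro X' X f
    simp only [g, MonObj.comp_mul, GrpObj.comp_inv, ← Category.assoc, comp_onePt]
  have hloc : ∀ {R : Type u} [CommRing R] {s : Spec (CommRingCat.of R) ⟶ S} (C : Fin n → R)
      (_ : ∀ (B : Type u) [CommRing B] [Algebra R B] (x y : B),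
        (gaP s x ≫ D.u α) * (gaP s y ≫ D.u β) * (gaP s x ≫ D.u α)⁻¹ =
        (gaP s y ≫ D.u β) *
          (List.ofFn fun k => gaP s (algebraMap R B (C k) * x ^ i k * y ^ j k) ≫ D.u (e k)).prod),
      g (tB s R) = (List.ofFn fun k => gaP s (C k) ≫ D.u (e k)).prod := by
    intro R _ s C hC
    have h := hC R 1 1
    have h1 : gaP (B := R) s (1 : R) = onePt (tB s R) := by
      unfold gaP onePt
      congr 1
      exact map_one _
    simp only [one_pow, _root_.mul_one, Algebra.algebraMap_self, RingHom.id_apply, h1] at h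
    simp only [g]
    rw [← _root_.mul_right_inj (onePt (tB s R) ≫ D.u β), ← h]
    group
  obtain ⟨z, hz⟩ := exists_coords D hE.inj lam hlam (g (𝟙_ (Over S))) (fun R _ v => by
    obtain ⟨c⟩ := exists_chart G (v ≫ (𝟙_ (Over S)).hom)
    obtain ⟨C, hC⟩ := chart_comm D hE lam hα hβ c
    exact ⟨fun k => gaP _ (C k), by rw [hg]; exact hloc C hC⟩)
  let C₀ : Fin n → Γ(S, ⊤) := fun k => Red.gaFn (z k)
  have hz' : ∀ k, z k = cPt (𝟙_ (Over S)) (C₀ k) := by
    intro k
    apply gaFn_injective
    rw [gaFn_gaPt]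
    change _ = (𝟙 S : S ⟶ S).appTop _
    simp [C₀]
  refine ⟨C₀, fun X x y w hw => ?_⟩
  apply hom_ext_affines
  intro R _ v
  set s := v ≫ X.hom with hs
  obtain ⟨c⟩ := exists_chart G s
  obtain ⟨C, hC⟩ := chart_comm D hE lam hα hβ c
  -- the local constants are the global ones
  have h1 : ∀ k, gaP s (C k) = cPt (tB s R) (C₀ k) := by
    have h2 := hloc C hC
    rw [← hg (toUnit (tB s R)), hz, comp_ofFn] at h2
    have h3 := prod_inj D hE.inj lam hlam h2
    intro k
    rw [← congrFun h3 k, hz', comp_cPt]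
  obtain ⟨x', hx'⟩ := exists_gaP (B := R) (s := s) (xPt v ≫ x)
  obtain ⟨y', hy'⟩ := exists_gaP (B := R) (s := s) (xPt v ≫ y)
  have h4 := hC R x' y'
  have h5 : ∀ k, xPt v ≫ w k = gaP s (C k * x' ^ i k * y' ^ j k) := by
    intro k
    apply gaFn_injective
    have e1 := congrArg Red.gaFn (h1 k)
    have e2 := congrArg Red.gaFn hx'
    have e3 := congrArg Red.gaFn hy'
    rw [gaFn_gaPt, gaFn_gaPt] at e1
    rw [gaFn_comp, gaFn_gaPt] at e2 e3
    rw [gaFn_comp, hw k, gaFn_gaPt, map_mul, map_mul, map_pow, map_pow, e2, e3, fnOf_mul, fnOf_mul, e1]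
    have e4 : fnOf s (x' ^ i k) = fnOf s x' ^ i k := map_pow _ _ _
    have e5 : fnOf s (y' ^ j k) = fnOf s y' ^ j k := map_pow _ _ _
    rw [e4, e5]
    congr 2
  simp only [MonObj.comp_mul, GrpObj.comp_inv, ← Category.assoc, comp_ofFn]
  rw [hx', hy', h4]
  simp only [h5, Algebra.algebraMap_self, RingHom.id_apply]

end comm

end Groth.Agent.RedSub.K193.Comm
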