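import Groth.Agent.RedSub.K199.ParabSet
import Groth.Agent.Sga3B.BaseZ

/-!
# Closed sets of roots containing no root together with its opposite

Such a set is contained in a system of positive roots: `exists_base_of_closed`.
-/

set_option autoImplicit false

open RootPairing

namespace K193.ClosedSets

variable {idx M N : Type} [AddCommGroup M] [AddCommGroup N] {P : RootPairing idx ℤ M N}

/-- no nonempty sum of elements of the set is zero -/
def Sal (P : RootPairing idx ℤ M N) (R' : Set idx) : Prop :=
  ∀ l : List idx, (∀ a ∈ l, a ∈ R') → (l.map P.root).sum = 0 → l = []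

lemma root_neg_index (a : idx) : P.root (P.reflectionPerm a a) = - P.root a := by
  rw [P.root_reflectionPerm, P.reflection_apply_self]

lemma neg_neg_index (a : idx) : P.reflectionPerm (P.reflectionPerm a a) (P.reflectionPerm a a) = a := by
  apply P.root.injective
  rw [root_neg_index, root_neg_index, neg_neg]

/-- In a closed set without opposite roots no nonempty sum is zero. -/
lemma sal_of_closed [Finite idx] (R' : Set idx)
    (hcl : ∀ a b c : idx, a ∈ R' → b ∈ R' → P.root a + P.root b = P.root c → c ∈ R')
    (hneg : ∀ a ∈ R', P.reflectionPerm a a ∉ R') : Sal P R' := by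
  classical
  have key : ∀ (n : ℕ) (l : List idx), l.length = n → (∀ a ∈ l, a ∈ R') → (l.map P.root).sum = 0 → l = [] := by
    intro n
    induction n using Nat.strong_induction_on with
    | _ n ih =>
      intro l hl hR h0
      cases l with
      | nil => rfl
      | cons a l =>
        exfalso
        rw [List.map_cons, List.sum_cons] at h0
        have ha : a ∈ R' := hR a List.mem_cons_self
        have h1 : (2 : ℤ) + (l.map (fun c => P.pairing c a)).sum = 0 := by
          have h2 := congrArg (P.coroot' a) h0
          rw [map_add, map_zero, map_list_sum, List.map_map, P.root_coroot'_eq_pairing, P.pairing_same] at h2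
          rw [← h2]
          congr 2
        obtain ⟨c, hc, hca⟩ : ∃ c ∈ l, P.pairing c a < 0 := by
          by_contra hcon
          push Not at hcon
          have h2 : 0 ≤ (l.map (fun c => P.pairing c a)).sum := by
            apply List.sum_nonneg
            intro x hx
            obtain ⟨c, hc, rfl⟩ := List.mem_map.1 hx
            exact hcon c hc
          omega
        have hcR : c ∈ R' := hR c (List.mem_cons_of_mem _ hc)
        have hne : P.root c ≠ - P.root a := by
          intro h
          have h3 : c = P.reflectionPerm a a := P.root.injective (by rw [h, root_neg_index])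
          exact hneg a ha (h3 ▸ hcR)
        have h4 : P.pairingIn ℤ c a < 0 := by
          have h5 : algebraMap ℤ ℤ (P.pairingIn ℤ c a) = P.pairing c a := P.algebraMap_pairingIn ℤ c a
          rw [Algebra.algebraMap_self, RingHom.id_apply] at h5
          rw [h5]
          exact hca
        obtain ⟨d, hd⟩ := P.root_add_root_mem_of_pairingIn_neg h4 hne
        have hdR : d ∈ R' := hcl c a d hcR ha hd.symm
        have h6 := ih (l.erase c).length.succ (by
          rw [List.length_erase_of_mem hc, ← hl, List.length_cons]
          have : 0 < l.length := List.length_pos_of_mem hc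
          omega) (d :: l.erase c) (by simp) (by
          intro x hx
          rcases List.mem_cons.1 hx with h | h
          · exact h ▸ hdR
          · exact hR x (List.mem_cons_of_mem _ (List.mem_of_mem_erase h))) (by
          rw [List.map_cons, List.sum_cons, hd]
          have h7 : (l.map P.root).sum = P.root c + ((l.erase c).map P.root).sum := by
            rw [← List.sum_cons, ← List.map_cons]
            exact ((List.perm_cons_erase hc).map _).sum_eq
          rw [h7] at h0
          rw [← h0]
          abel)
        exact List.cons_ne_nil _ _ h6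
  exact fun l h h0 => key _ l rfl h h0

/-- the roots which are sums of elements of the set -/
def cl (P : RootPairing idx ℤ M N) (R' : Set idx) : Set idx :=
  {c | ∃ l : List idx, (∀ a ∈ l, a ∈ R') ∧ (l.map P.root).sum = P.root c}

lemma subset_cl (R' : Set idx) : R' ⊆ cl P R' := fun a ha => ⟨[a], by simpa using ha, by simp⟩

lemma cl_closed (R' : Set idx) (a b c : idx) (ha : a ∈ cl P R') (hb : b ∈ cl P R')
    (h : P.root a + P.root b = P.root c) : c ∈ cl P R' := by
  obtain ⟨l, hl, hla⟩ := ha
  obtain ⟨l', hl', hlb⟩ := hb
  refine ⟨l ++ l', fun x hx => ?_, by rw [List.map_append, List.sum_append, hla, hlb, h]⟩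
  rcases List.mem_append.1 hx with h | h
  · exact hl x h
  · exact hl' x h

lemma cl_neg [NeZero (2 : ℤ)] {R' : Set idx} (h : Sal P R') (a : idx) (ha : a ∈ cl P R') : P.reflectionPerm a a ∉ cl P R' := by
  rintro ⟨l', hl', hlb⟩
  obtain ⟨l, hl, hla⟩ := ha
  have h1 := h (l ++ l') (fun x hx => by
    rcases List.mem_append.1 hx with h | h
    · exact hl x h
    · exact hl' x h) (by
    rw [List.map_append, List.sum_append, hla, hlb, root_neg_index, add_neg_cancel])
  rw [List.append_eq_nil_iff] at h1
  rw [h1.1] at hla
  exact P.ne_zero a hla.symm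

/-- One of two opposite roots can be added. -/
lemma sal_insert {R' : Set idx} (h : Sal P R') (a : idx) :
    Sal P (insert a R') ∨ Sal P (insert (P.reflectionPerm a a) R') := by
  classical
  by_contra hcon
  push Not at hcon
  obtain ⟨h1, h2⟩ := hcon
  have key : ∀ x : idx, ¬ Sal P (insert x R') → ∃ (l : List idx) (n : ℕ), 0 < n ∧ (∀ a ∈ l, a ∈ R') ∧
      (l.map P.root).sum + n • P.root x = 0 := by
    intro x hx
    unfold Sal at hx
    push Not at hx
    obtain ⟨l, hl, hl0, hne⟩ := hx
    refine ⟨l.filter (fun c => c ≠ x), l.count x, ?_, ?_, ?_⟩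
    · rw [List.count_pos_iff]
      by_contra hxl
      refine hne (h l (fun c hc => ?_) hl0)
      exact (hl c hc).resolve_left (fun hcx => hxl (hcx ▸ hc))
    · intro c hc
      rw [List.mem_filter] at hc
      exact (hl c hc.1).resolve_left (by simpa using hc.2)
    · rw [← hl0]
      clear hl hl0 hne
      induction l with
      | nil => simp
      | cons c l ih =>
        by_cases hc : c = x
        · subst hc
          simp only [ne_eq, decide_not, List.filter_cons, decide_true, Bool.not_true, Bool.false_eq_true,
            if_false, List.count_cons_self, List.map_cons, List.sum_cons, ← ih]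
          rw [add_smul, one_smul]
          abel
        · simp only [ne_eq, decide_not, List.filter_cons, hc, decide_false, Bool.not_false, if_true,
            List.map_cons, List.sum_cons, List.count_cons_of_ne hc, ← ih]
          abel
  obtain ⟨l, n, hn, hl, hl0⟩ := key a h1
  obtain ⟨l', m, hm, hl', hl0'⟩ := key _ h2
  rw [root_neg_index] at hl0'
  have h3 : ∀ (k : ℕ) (l : List idx), (((List.replicate k l).flatten).map P.root).sum = k • (l.map P.root).sum := by
    intro k l
    induction k with
    | zero => simp
    | succ k ih => rw [List.replicate_succ, List.flatten_cons, List.map_append, List.sum_append, ih, succ_nsmul']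
  have h4 := h ((List.replicate m l).flatten ++ (List.replicate n l').flatten) (fun x hx => by
    rcases List.mem_append.1 hx with hx | hx
    · obtain ⟨l₁, h5, h6⟩ := List.mem_flatten.1 hx
      exact hl x ((List.eq_of_mem_replicate h5) ▸ h6)
    · obtain ⟨l₁, h5, h6⟩ := List.mem_flatten.1 hx
      exact hl' x ((List.eq_of_mem_replicate h5) ▸ h6)) (by
    rw [List.map_append, List.sum_append, h3, h3, eq_neg_of_add_eq_zero_left hl0, eq_neg_of_add_eq_zero_left hl0',
      smul_neg, smul_neg, smul_neg, smul_neg, neg_neg, ← mul_smul, ← mul_smul, mul_comm]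
    exact neg_add_cancel _)
  rw [List.append_eq_nil_iff] at h4
  have h5 : l = [] := by
    obtain ⟨k, rfl⟩ : ∃ k, m = k + 1 := ⟨m - 1, by omega⟩
    rw [List.replicate_succ, List.flatten_cons, List.append_eq_nil_iff] at h4
    exact h4.1.1
  rw [h5, List.map_nil, List.sum_nil, zero_add] at hl0
  have : IsAddTorsionFree M := by
    have := Module.IsReflexive.of_isPerfPair P.toLinearMap
    exact .of_isTorsionFree ℤ M
  exact P.ne_zero a ((smul_eq_zero_iff_right (by omega)).1 hl0)

/-- **A closed set of roots without opposite roots is contained in a positive system.** -/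
theorem exists_base_of_closed [Finite idx] (hP : Nonempty P.Base) (R' : Set idx)
    (hcl : ∀ a b c : idx, a ∈ R' → b ∈ R' → P.root a + P.root b = P.root c → c ∈ R')
    (hneg : ∀ a ∈ R', P.reflectionPerm a a ∉ R') : ∃ b : P.Base, R' ⊆ RedSub.posRoots P b := by
  classical
  let 𝒮 : Set (Set idx) := {A | (∀ a b c : idx, a ∈ A → b ∈ A → P.root a + P.root b = P.root c → c ∈ A) ∧
    ∀ a ∈ A, P.reflectionPerm a a ∉ A}
  obtain ⟨A, hle, hA, hmax⟩ := (Set.toFinite 𝒮).exists_le_maximal (a := R') ⟨hcl, hneg⟩
  have htot : ∀ a : idx, a ∈ A ∨ P.reflectionPerm a a ∈ A := by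
    intro a
    rcases sal_insert (sal_of_closed A hA.1 hA.2) a with h | h
    · left
      exact hmax ⟨cl_closed _, fun x hx => cl_neg h x hx⟩ (fun x hx => subset_cl _ (Set.mem_insert_of_mem _ hx))
        (subset_cl _ (Set.mem_insert _ _))
    · right
      exact hmax ⟨cl_closed _, fun x hx => cl_neg h x hx⟩ (fun x hx => subset_cl _ (Set.mem_insert_of_mem _ hx))
        (subset_cl _ (Set.mem_insert _ _))
  obtain ⟨b₀⟩ := hP
  obtain ⟨b, hb⟩ := K199.ParabSet.exists_base_posRoots_subset b₀ A hA.1 htot
  refine ⟨b, fun a ha => ?_⟩
  have h1 := hle ha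
  rcases b.root_mem_or_neg_mem a with h | h
  · exact h
  · exfalso
    refine hA.2 a h1 (hb ?_)
    change P.root (P.reflectionPerm a a) ∈ AddSubmonoid.closure (P.root '' (b.support : Set idx))
    rw [root_neg_index]
    exact h

end K193.ClosedSets
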