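import Groth.Agent.Sga3B.RootUniq829

/-!
# The commutator formula with constants, in the datum of a chart

`exists_const`: `u_a(x) u_c(y) u_a(x)⁻¹ = u_c(y) ∏_k u_{e k}(C_k x^{i_k} y^{j_k})`, the product taken in the
order of a given enumeration `e` of the roots `i a + j c`, `i, j ≥ 1`.
-/

set_option autoImplicit false
universe u

open Polynomial LaurentPolynomial

namespace Groth.Agent.RedSub.K193.CommAlg

open Groth.Agent.Sga3B.Cell Groth.Agent.Sga3B.Cell.Datum

variable {R A : Type u} [CommRing R] [CommRing A] [Algebra R A] [PtGrp R A] {D : Datum R A}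

/-- The product over a list whose tail has zero coordinates. -/
lemma cell_append {B : Type u} [CommRing B] [Algebra R B] {n : ℕ} (e : Fin n → D.idx)
    (L' : List D.idx) (y : D.idx → B) (hy : ∀ b ∈ L', y b = 0) :
    D.cell (List.ofFn e ++ L') y 1 = (List.ofFn fun k => D.uu (e k) B (y (e k))).prod := by
  have h1 : (L'.map (fun b => D.uu b B (y b))).prod = 1 := prod_uu_eq_one hy
  rw [cell, List.map_append, List.prod_append, h1, _root_.mul_one, map_one, _root_.mul_one,
    List.map_ofFn]
  rfl

/-- **The commutator formula with constants.** -/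
theorem exists_const {n : ℕ} (e : Fin n → D.idx) (L' : List D.idx) {δ : D.CR}
    (hδ : D.EtOn (List.ofFn e ++ L') δ) (hδ0 : D.ev0 δ = 1)
    (hL' : ∀ b ∈ L', b ∉ Set.range e) (i j : Fin n → ℕ) (a c : D.idx) (lam : D.M →+ ℤ)
    (hlama : 0 < lam (D.root a)) (hlamc : 0 < lam (D.root c))
    (hij : ∀ k (p q : ℕ), p ≠ 0 → q ≠ 0 → p • D.root a + q • D.root c = D.root (e k) →
      p = i k ∧ q = j k)
    (hall : ∀ (b : D.idx) (p q : ℕ), p ≠ 0 → q ≠ 0 → p • D.root a + q • D.root c = D.root b →
      b ∈ Set.range e) :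
    ∃ C : Fin n → R, ∀ (B : Type u) [CommRing B] [Algebra R B] (x y : B),
      D.uu a B x * D.uu c B y * (D.uu a B x)⁻¹ =
        D.uu c B y * (List.ofFn fun k => D.uu (e k) B (algebraMap R B (C k) * x ^ i k * y ^ j k)).prod := by
  classical
  obtain ⟨p, hp, h⟩ := exists_commutator hδ hδ0 c a lam hlamc hlama
  have h0 : ∀ b, b ∉ Set.range e → p b = 0 := by
    intro b hb
    ext m
    rw [MvPolynomial.coeff_zero]
    by_contra hm
    obtain ⟨h1, h2, h3⟩ := hp b m hm
    exact hb (hall b _ _ h2 h1 (by rw [add_comm]; exact h3))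
  -- the exponent of the only monomial
  let ex : Fin n → Fin 2 →₀ ℕ := fun k => Finsupp.single 0 (j k) + Finsupp.single 1 (i k)
  have hex0 : ∀ k, ex k 0 = j k := fun k => by simp [ex]
  have hex1 : ∀ k, ex k 1 = i k := fun k => by simp [ex]
  have hpk : ∀ k, p (e k) = MvPolynomial.monomial (ex k) (MvPolynomial.coeff (ex k) (p (e k))) := by
    intro k
    ext m
    rw [MvPolynomial.coeff_monomial]
    by_cases hm : ex k = m
    · rw [if_pos hm, hm]
    · rw [if_neg hm]
      by_contra hm'
      obtain ⟨h1, h2, h3⟩ := hp _ m hm'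
      obtain ⟨h4, h5⟩ := hij k _ _ h2 h1 (by rw [add_comm]; exact h3)
      apply hm
      ext s
      fin_cases s
      · change ex k 0 = m 0
        rw [hex0, h5]
      · change ex k 1 = m 1
        rw [hex1, h4]
  refine ⟨fun k => (-1) ^ j k * MvPolynomial.coeff (ex k) (p (e k)), fun B _ _ x y => ?_⟩
  have h1 := h B ![-y, x]
  rw [cell_append e L' _ (fun b hb => by rw [h0 b (hL' b hb), map_zero])] at h1
  simp only [Matrix.cons_val_zero, Matrix.cons_val_one] at h1
  have h2 : ∀ k, MvPolynomial.aeval ![-y, x] (p (e k)) =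
      algebraMap R B ((-1) ^ j k * MvPolynomial.coeff (ex k) (p (e k))) * x ^ i k * y ^ j k := by
    intro k
    rw [hpk k, MvPolynomial.aeval_monomial, MvPolynomial.coeff_monomial, if_pos rfl,
      Finsupp.prod_fintype _ _ (by simp), Fin.prod_univ_two, hex0, hex1]
    simp only [Matrix.cons_val_zero, Matrix.cons_val_one, map_mul, map_pow, map_neg, map_one]
    rw [neg_pow y]
    ring
  simp only [h2] at h1
  rw [← h1, uu_neg]
  group

end Groth.Agent.RedSub.K193.CommAlg
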