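import Groth.Agent.SGA3x.K21.EssFree
import Groth.Agent.S3954
import Groth.Agent.S2958
import Groth.Agent.Sga3B.IsomPin848
import Groth.Agent.RedSub.H633.CellOpenImm
import Groth.Agent.RedSub.H637.PosRoots
import Groth.Agent.Sga3B.SplitRedField415
import Groth.Agent.Sga3B.BaseZ

/-!
# Reductive groups are essentially free over the base

* `isEssentiallyFree_of_charts`: a criterion with charts;
* `exists_chart`: a split reductive group over an affine base is covered by open immersions from spectra of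
  free algebras (the translates of the big cell).
-/

set_option autoImplicit false
universe u
open CategoryTheory MonoidalCategory CartesianMonoidalCategory MonObj GrpObj AlgebraicGeometry Limits

namespace K193.EssFree

open K21.EssFree

variable {S : Scheme.{u}}

/-- Criterion: étale-locally on the base there are charts with projective coordinate rings. -/
theorem isEssentiallyFree_of_charts {Z : Scheme.{u}} (f : Z ⟶ S)
    (h : ∀ (U : S.Opens), IsAffineOpen U → ∀ s ∈ U, ∃ (R : CommRingCat.{u}) (p : Spec R ⟶ (U : Scheme.{u})),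
      Flat p ∧ LocallyOfFinitePresentation p ∧ s ∈ Set.range (p ≫ U.ι) ∧
      ∀ z : ↥(pullback f (p ≫ U.ι)), ∃ (B : CommRingCat.{u}) (φ : R ⟶ B) (e : Spec B ⟶ pullback f (p ≫ U.ι)),
        IsOpenImmersion e ∧ z ∈ Set.range e ∧ PR φ.hom ∧ e ≫ pullback.snd _ _ = Spec.map φ) :
    SGA3x.IsEssentiallyFree f := by
  intro s
  obtain ⟨U, hU, hsU⟩ : ∃ U : S.Opens, IsAffineOpen U ∧ s ∈ U := by
    obtain ⟨_, ⟨U, hU, rfl⟩, hsU, -⟩ :=
      S.isBasis_affineOpens.exists_subset_of_mem_open (Set.mem_univ s) isOpen_univ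
    exact ⟨U, hU, hsU⟩
  have hU' : IsAffine (U : Scheme.{u}) := hU
  -- finitely many of the flat charts cover `U`
  choose R₀ p₀ hfl₀ hfp₀ hs₀ hB₀ using fun x : (U : Scheme.{u}) => h U hU (U.ι x) (by simp)
  have hx₀ : ∀ x, x ∈ Set.range (p₀ x) := by
    intro x
    obtain ⟨y, hy⟩ := hs₀ x
    refine ⟨y, ?_⟩
    rw [Scheme.Hom.comp_apply] at hy
    exact U.ι.isOpenEmbedding.injective hy
  have hcov : (Set.univ : Set (U : Scheme.{u})) ⊆ ⋃ x, Set.range (p₀ x) := fun x _ => Set.mem_iUnion.2 ⟨x, hx₀ x⟩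
  have hcpt : IsCompact (Set.univ : Set (U : Scheme.{u})) := isCompact_univ
  obtain ⟨t, ht⟩ := hcpt.elim_finite_subcover (fun x => Set.range (p₀ x)) (fun x => (p₀ x).isOpenMap.isOpen_range) hcov
  let κ : Type u := t
  have hκ : Finite κ := inferInstanceAs (Finite t)
  let R : κ → CommRingCat.{u} := fun i => R₀ i.1
  let p : ∀ i : κ, Spec (R i) ⟶ (U : Scheme.{u}) := fun i => p₀ i.1
  have hfl : ∀ i, Flat (p i) := fun i => hfl₀ _
  have hsurj : ∀ x : (U : Scheme.{u}), ∃ i, x ∈ Set.range (p i) := by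
    intro x
    obtain ⟨i, hi⟩ := Set.mem_iUnion.1 (ht (Set.mem_univ x))
    obtain ⟨hi1, hi2⟩ := Set.mem_iUnion.1 hi
    exact ⟨⟨i, hi1⟩, hi2⟩
  have hB : ∀ (i : κ) (z : ↥(pullback f (p i ≫ U.ι))), ∃ (B : CommRingCat.{u}) (φ : R i ⟶ B)
      (e : Spec B ⟶ pullback f (p i ≫ U.ι)),
        IsOpenImmersion e ∧ z ∈ Set.range e ∧ PR φ.hom ∧ e ≫ pullback.snd _ _ = Spec.map φ := fun i => hB₀ _
  let T : Scheme.{u} := Spec (CommRingCat.of (∀ i, R i))
  let g : T ⟶ (U : Scheme.{u}) := inv (sigmaSpec R) ≫ Sigma.desc p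
  let k : ∀ i, Spec (R i) ⟶ T := fun i => Spec.map (CommRingCat.ofHom (Pi.evalRingHom (fun i => R i) i))
  have hk : ∀ i, IsOpenImmersion (k i) := fun i => inferInstance
  have hkg : ∀ i, k i ≫ g = p i := by
    intro i
    have h1 : Limits.Sigma.ι (fun i => Spec (R i)) i ≫ sigmaSpec R = k i := AlgebraicGeometry.ι_sigmaSpec R i
    rw [← h1, Category.assoc]
    simp only [g]
    rw [IsIso.hom_inv_id_assoc, Sigma.ι_desc]
  have hgf : Flat g := by
    have : Flat (Limits.Sigma.desc p) := inferInstance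
    exact inferInstanceAs (Flat (inv (sigmaSpec R) ≫ Limits.Sigma.desc p))
  have hkcov : ∀ t : T, ∃ i, t ∈ Set.range (k i) := by
    intro t
    obtain ⟨i, y, hy⟩ : ∃ i, ∃ y : Spec (R i), Limits.Sigma.ι (fun i => Spec (R i)) i y = inv (sigmaSpec R) t := by
      obtain ⟨y, hy⟩ := (sigmaOpenCover (fun i => Spec (R i))).covers (inv (sigmaSpec R) t)
      exact ⟨_, y, hy⟩
    refine ⟨i, y, ?_⟩
    have h1 : Limits.Sigma.ι (fun i => Spec (R i)) i ≫ sigmaSpec R = k i := AlgebraicGeometry.ι_sigmaSpec R i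
    rw [← h1, Scheme.Hom.comp_apply, hy, ← Scheme.Hom.comp_apply, IsIso.inv_hom_id]
    rfl
  have hgs : Surjective g := by
    refine ⟨fun x => ?_⟩
    obtain ⟨i, y, hy⟩ := hsurj x
    refine ⟨k i y, ?_⟩
    rw [← Scheme.Hom.comp_apply, hkg, hy]
  refine ⟨U, hsU, hU, T, inferInstance, g, hgf, hgs, fun x => ?_⟩
  let q : pullback f (g ≫ U.ι) ⟶ T := pullback.snd f (g ≫ U.ι)
  obtain ⟨i, y, hy⟩ := hkcov (q x)
  -- the open part over `Spec (R i)`
  let j : pullback q (k i) ⟶ pullback f (g ≫ U.ι) := pullback.fst q (k i)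
  have hj : IsOpenImmersion j := inferInstance
  let e2 : pullback q (k i) ≅ pullback f (k i ≫ g ≫ U.ι) := pullbackLeftPullbackSndIso f (g ≫ U.ι) (k i)
  have he2 : e2.hom ≫ pullback.snd _ _ = pullback.snd _ _ := pullbackLeftPullbackSndIso_hom_snd _ _ _
  have h3 : k i ≫ g ≫ U.ι = p i ≫ U.ι := by rw [← Category.assoc, hkg]
  let e3 : pullback f (k i ≫ g ≫ U.ι) ≅ pullback f (p i ≫ U.ι) := pullback.congrHom rfl h3
  have he3 : e3.hom ≫ pullback.snd _ _ = pullback.snd _ _ := by
    simp only [e3, pullback.congrHom_hom]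
    rw [pullback.lift_snd, Category.comp_id]
  obtain ⟨x', hx'⟩ : x ∈ Set.range j := by
    have h4 : Set.range j = q ⁻¹' Set.range (k i) := IsOpenImmersion.range_pullbackFst _ _
    rw [h4]
    exact ⟨y, hy⟩
  obtain ⟨B, φ, e, he, ⟨w, hw⟩, hφ, heφ⟩ := hB i ((e2 ≪≫ e3).hom x')
  let a : Spec B ⟶ pullback f (g ≫ U.ι) := e ≫ (e2 ≪≫ e3).inv ≫ j
  have ha : IsOpenImmersion a := inferInstance
  have hax : x ∈ Set.range a := by
    refine ⟨w, ?_⟩
    simp only [a, Scheme.Hom.comp_apply]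
    rw [hw, ← Scheme.Hom.comp_apply (e2 ≪≫ e3).hom, Iso.hom_inv_id]
    exact hx'
  let V := a.opensRange
  let E : (V : Scheme.{u}) ≅ Spec B := (Scheme.Hom.isoOpensRange a).symm
  have hE0 : E.inv ≫ V.ι = a := Scheme.Hom.isoOpensRange_hom_ι a
  have hE : V.ι ≫ q = E.hom ≫ Spec.map φ ≫ k i := by
    rw [← Iso.inv_comp_eq, ← Category.assoc, hE0]
    simp only [a, Category.assoc]
    have h5 : j ≫ q = pullback.snd q (k i) ≫ k i := pullback.condition
    rw [h5, ← heφ]
    simp only [Iso.trans_inv, Category.assoc]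
    congr 1
    rw [← Category.assoc e3.inv, ← Category.assoc (e3.inv ≫ e2.inv)]
    congr 1
    rw [Category.assoc, ← he2, Iso.inv_hom_id_assoc, ← he3, Iso.inv_hom_id_assoc]
  refine ⟨V, hax, ?_, ?_⟩
  · have : IsAffine (V : Scheme.{u}) := IsAffine.of_isIso E.hom
    exact this
  · change PR (V.ι ≫ q).appTop.hom
    rw [hE, Scheme.Hom.comp_appTop, Scheme.Hom.comp_appTop, CommRingCat.hom_comp, CommRingCat.hom_comp]
    refine PR.comp (PR.comp ?_ ?_) (PR.of_bijective ?_)
    · have h4 : (k i).appTop = (Scheme.ΓSpecIso _).hom ≫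
          CommRingCat.ofHom (Pi.evalRingHom (fun i => R i) i) ≫ (Scheme.ΓSpecIso _).inv := by
        rw [← Category.assoc, Iso.eq_comp_inv]
        exact Scheme.ΓSpecIso_naturality _
      rw [h4, CommRingCat.hom_comp, CommRingCat.hom_comp]
      refine PR.comp (PR.of_bijective ?_) (PR.comp (pr_eval (fun i => R i) i) (PR.of_bijective ?_))
      · exact ConcreteCategory.bijective_of_isIso (Scheme.ΓSpecIso _).hom
      · exact ConcreteCategory.bijective_of_isIso (Scheme.ΓSpecIso _).inv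
    · have h4 : (Spec.map φ).appTop = (Scheme.ΓSpecIso _).hom ≫ φ ≫ (Scheme.ΓSpecIso _).inv := by
        rw [← Category.assoc, Iso.eq_comp_inv]
        exact Scheme.ΓSpecIso_naturality _
      rw [h4, CommRingCat.hom_comp, CommRingCat.hom_comp]
      refine PR.comp (PR.of_bijective ?_) (PR.comp hφ (PR.of_bijective ?_))
      · exact ConcreteCategory.bijective_of_isIso (Scheme.ΓSpecIso _).hom
      · exact ConcreteCategory.bijective_of_isIso (Scheme.ΓSpecIso _).inv
    · have h5 : IsIso E.hom.appTop := inferInstanceAs (IsIso (E.hom.app ⊤))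
      exact ConcreteCategory.bijective_of_isIso E.hom.appTop

section split

open Groth.Agent.Sga3B Groth.Agent.Sga3B.Cell Groth.Agent.RedSub.H633 Groth.Agent.RedSub.H633.CellOpenImm

/-- **A split reductive group over an affine base is covered by spectra of free algebras.** -/
theorem exists_chart {R : CommRingCat.{u}} {G : Over (Spec R)} [GrpObj G] (D : Red.SplitRed G) (z : G.left) :
    ∃ (B : CommRingCat.{u}) (φ : R ⟶ B) (e : Spec B ⟶ G.left),
      IsOpenImmersion e ∧ z ∈ Set.range e ∧ PR φ.hom ∧ e ≫ G.hom = Spec.map φ := by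
  have hne : Nonempty (Spec R) := ⟨G.hom z⟩
  have hred := SplitReduced415.isReduced D
  obtain ⟨b⟩ : Nonempty D.P.Base := BaseZ.nonempty_base D.P
  obtain ⟨n, eneg, hneg⟩ := Groth.Agent.RedSub.H637.PosRoots.exists_enumerates (_root_.RedSub.negRoots D.P b)
  obtain ⟨m, epos, hpos⟩ := Groth.Agent.RedSub.H637.PosRoots.exists_enumerates (_root_.RedSub.posRoots D.P b)
  choose nr hnr using D.refl
  obtain ⟨w, hw⟩ := Groth.Agent.S3954.result D b eneg epos hneg hpos nr (fun a X t => hnr a X t) z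
  obtain ⟨lam, -, -, -, hs⟩ := SignEnum.of_base b hneg hpos
  have := D.reductive.1
  obtain ⟨c⟩ := Groth.Agent.Sga3B.exists_chart G (𝟙 (Spec (CommRingCat.of R)))
  have h1 := CellSch.isPullback_src (𝟙 (Spec (CommRingCat.of R))) c hs.neg_inj hs.pos_inj hs.comp
  set v := (CellSch.univPt (𝟙 (Spec (CommRingCat.of R))) D c eneg epos).left with hv
  have hviso : IsIso v := by
    have : (MorphismProperty.isomorphisms Scheme.{u}) v :=
      MorphismProperty.of_isPullback (P := MorphismProperty.isomorphisms Scheme.{u}) h1.flip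
        (inferInstanceAs (IsIso (𝟙 (Spec (CommRingCat.of R)))))
    exact this
  have hopen : IsOpenImmersion (_root_.RedSub.cellMap D eneg epos).left := isOpenImmersion_cellMap hs
  set g := (w.map nr).prod with hg
  let τ : G ⟶ G := (toUnit G ≫ g) * 𝟙 G
  let τ' : G ⟶ G := (toUnit G ≫ g⁻¹) * 𝟙 G
  have hcomp : ∀ {X : Over (Spec R)} (x : X ⟶ G) (g : 𝟙_ (Over (Spec R)) ⟶ G),
      x ≫ ((toUnit G ≫ g) * 𝟙 G) = (toUnit X ≫ g) * x := by
    intro X x g
    rw [MonObj.comp_mul, ← Category.assoc, comp_toUnit, Category.comp_id]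
  have hτ : IsIso τ := by
    refine ⟨τ', ?_, ?_⟩
    · rw [hcomp τ g⁻¹]
      simp only [τ]
      rw [GrpObj.comp_inv, inv_mul_cancel_left]
    · rw [hcomp τ' g]
      simp only [τ']
      rw [GrpObj.comp_inv, mul_inv_cancel_left]
  have hτl : IsIso τ.left := inferInstanceAs (IsIso ((Over.forget _).map τ))
  have h2 : (toUnit _ ≫ g) * _root_.RedSub.cellMap D eneg epos = _root_.RedSub.cellMap D eneg epos ≫ τ :=
    (hcomp _ g).symm
  rw [h2] at hw
  refine ⟨CommRingCat.of (c.datum D).CR, CommRingCat.ofHom (algebraMap R (c.datum D).CR),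
    v ≫ (_root_.RedSub.cellMap D eneg epos ≫ τ).left, ?_, ?_, ?_, ?_⟩
  · rw [Over.comp_left]
    infer_instance
  · obtain ⟨y, hy⟩ := hw
    refine ⟨inv v y, ?_⟩
    rw [Scheme.Hom.comp_apply, ← Scheme.Hom.comp_apply (inv v), IsIso.inv_hom_id]
    exact hy
  · have h3 : (algebraMap R (c.datum D).CR).toAlgebra = (inferInstance : Algebra R (c.datum D).CR) :=
      Algebra.algebra_ext _ _ fun _ => rfl
    change PR (algebraMap R (c.datum D).CR)
    unfold PR
    rw [h3]
    exact (inferInstance : Module.Projective R (MvPolynomial D.idx (MonoidAlgebra R (Multiplicative D.M))))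
  · rw [Category.assoc, Over.w]
    exact h1.w.trans (Category.comp_id _)

end split

/-- **Reductive groups are essentially free.** -/
theorem isEssentiallyFree (G : Over S) [GrpObj G] (hG : Red.IsReductive G) : SGA3x.IsEssentiallyFree G.hom := by
  refine isEssentiallyFree_of_charts G.hom fun U hU s hs => ?_
  obtain ⟨W, f, hf, ⟨y, hy⟩, ⟨D⟩⟩ := Groth.Agent.S2958.result G hG s
  obtain ⟨V, hV, hyV, hVU⟩ : ∃ V : W.Opens, IsAffineOpen V ∧ y ∈ V ∧ V ≤ f ⁻¹ᵁ U := by
    obtain ⟨_, ⟨V, hV, rfl⟩, hyV, hVU⟩ :=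
      W.isBasis_affineOpens.exists_subset_of_mem_open (a := y) (show y ∈ (f ⁻¹ᵁ U : Set W) from by
        change f y ∈ U
        rw [show f y = s from hy]
        exact hs) (f ⁻¹ᵁ U).isOpen
    exact ⟨V, hV, hyV, hVU⟩
  obtain ⟨y', hy'⟩ : y ∈ Set.range hV.fromSpec := hV.range_fromSpec.ge hyV
  have hrange : Set.range (hV.fromSpec ≫ f) ⊆ Set.range U.ι := by
    rintro _ ⟨x, rfl⟩
    rw [Scheme.Opens.range_ι]
    have h1 : hV.fromSpec x ∈ V := hV.range_fromSpec.le ⟨x, rfl⟩
    exact hVU h1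
  let p : Spec Γ(W, V) ⟶ (U : Scheme.{u}) := IsOpenImmersion.lift U.ι (hV.fromSpec ≫ f) hrange
  have hp : p ≫ U.ι = hV.fromSpec ≫ f := IsOpenImmersion.lift_fac _ _ _
  have hpe : Etale p := by
    have h1 : Etale (p ≫ U.ι) := by rw [hp]; infer_instance
    exact MorphismProperty.of_postcomp (W := @Etale) (W' := @Etale) p U.ι inferInstance h1
  refine ⟨Γ(W, V), p, inferInstance, inferInstance, ⟨y', ?_⟩, ?_⟩
  · rw [hp, Scheme.Hom.comp_apply, hy']
    exact hy
  · have D' := Groth.Agent.Sga3B.IsomPin848.splitComp f hV.fromSpec (p ≫ U.ι) hp.symm G D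
    exact fun z => exists_chart D' z

end K193.EssFree
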