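import Mathlib.Algebra.Group.Subgroup.Basic
import Mathlib.Tactic.LinearCombination
import Mathlib.Tactic.Group
import Mathlib.Tactic.Ring

/-!
# Elimination in rank two: a subgroup containing `A x` and `B y` contains the commutator factors

`B₂`: `[B y, A x] = C(xy) D(-x²y)`; `G₂`: `[B y, A x] = C(xy) D(-x²y) E(x³y) F(-x³y²)`. If `z² = z + 1` then the factors
are in the subgroup generated by the `A x` and the `B y`.
-/

set_option autoImplicit false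

namespace K193.GenAlg

variable {Γ R : Type*} [Group Γ] [CommRing R]

/-- additive families -/
def Add (A : R → Γ) : Prop := ∀ x y, A (x + y) = A x * A y

lemma Add.zero {A : R → Γ} (h : Add A) : A 0 = 1 := by
  have := h 0 0
  rw [add_zero] at this
  exact mul_eq_left.mp this.symm

lemma Add.neg {A : R → Γ} (h : Add A) (x : R) : A (-x) = (A x)⁻¹ := by
  rw [eq_inv_iff_mul_eq_one, ← h, neg_add_cancel, h.zero]

variable (K : Subgroup Γ) {A B C D E F : R → Γ}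

/-- type `A₂` -/
theorem a2 (hAK : ∀ x, A x ∈ K) (hBK : ∀ x, B x ∈ K)
    (h : ∀ x y, B y * A x * (B y)⁻¹ * (A x)⁻¹ = C (x * y)) (t : R) : C t ∈ K := by
  have h1 := h 1 t
  rw [one_mul] at h1
  rw [← h1]
  exact K.mul_mem (K.mul_mem (K.mul_mem (hBK _) (hAK _)) (K.inv_mem (hBK _))) (K.inv_mem (hAK _))

variable (z : R) (hz : z ^ 2 = z + 1)

include hz in
/-- type `B₂` -/
theorem b2 (hD : Add D) (hAK : ∀ x, A x ∈ K) (hBK : ∀ x, B x ∈ K)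
    (h : ∀ x y, B y * A x * (B y)⁻¹ * (A x)⁻¹ = C (x * y) * D (-(x ^ 2 * y))) :
    (∀ t, C t ∈ K) ∧ ∀ t, D t ∈ K := by
  have hF : ∀ x y, C (x * y) * D (-(x ^ 2 * y)) ∈ K := by
    intro x y
    rw [← h]
    exact K.mul_mem (K.mul_mem (K.mul_mem (hBK _) (hAK _)) (K.inv_mem (hBK _))) (K.inv_mem (hAK _))
  have hDK : ∀ t, D t ∈ K := by
    intro t
    have h1 := K.mul_mem (K.inv_mem (hF z t)) (hF 1 (z * t))
    have h2 : (C (z * t) * D (-(z ^ 2 * t)))⁻¹ * (C (1 * (z * t)) * D (-(1 ^ 2 * (z * t)))) = D t := by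
      rw [one_mul, one_pow, one_mul, mul_inv_rev, mul_assoc, inv_mul_cancel_left, ← hD.neg, ← hD]
      congr 1
      linear_combination t * hz
    rwa [h2] at h1
  refine ⟨fun t => ?_, hDK⟩
  have h1 := K.mul_mem (hF 1 t) (K.inv_mem (hDK (-(1 ^ 2 * t))))
  rwa [mul_inv_cancel_right, one_mul] at h1

include hz in
/-- type `G₂` -/
theorem g2 (hD : Add D) (hE : Add E) (hF : Add F) (hAK : ∀ x, A x ∈ K) (hBK : ∀ x, B x ∈ K)
    (h : ∀ x y, B y * A x * (B y)⁻¹ * (A x)⁻¹ =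
      C (x * y) * D (-(x ^ 2 * y)) * E (x ^ 3 * y) * F (-(x ^ 3 * y ^ 2)))
    (hDE : ∀ x y, D x * E y = E y * D x) (hDF : ∀ x y, D x * F y = F y * D x)
    (hEF : ∀ x y, E x * F y = F y * E x) (hBF : ∀ x y, B x * F y = F y * B x)
    (hEB : ∀ x y, B y * E x * (B y)⁻¹ * (E x)⁻¹ = F (x * y)) :
    (∀ t, C t ∈ K) ∧ (∀ t, D t ∈ K) ∧ (∀ t, E t ∈ K) ∧ ∀ t, F t ∈ K := by
  have hK : ∀ x y, C (x * y) * D (-(x ^ 2 * y)) * E (x ^ 3 * y) * F (-(x ^ 3 * y ^ 2)) ∈ K := by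
    intro x y
    rw [← h]
    exact K.mul_mem (K.mul_mem (K.mul_mem (hBK _) (hAK _)) (K.inv_mem (hBK _))) (K.inv_mem (hAK _))
  -- elimination of `C`
  have hG : ∀ x y, D (x ^ 2 * y) * E (-(z ^ 2 * x ^ 3 * y)) * F (z * x ^ 3 * y ^ 2) ∈ K := by
    intro x y
    have h1 := K.mul_mem (K.inv_mem (hK (x * z) y)) (hK x (y * z))
    have h2 : ∀ (c d₁ e₁ f₁ d₂ e₂ f₂ : Γ), d₁ * e₁ = e₁ * d₁ → d₁ * e₂ = e₂ * d₁ → d₂ * e₁ = e₁ * d₂ →
        d₁ * f₁ = f₁ * d₁ → d₂ * f₁ = f₁ * d₂ → e₁ * f₁ = f₁ * e₁ → e₂ * f₁ = f₁ * e₂ →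
        (c * d₁ * e₁ * f₁)⁻¹ * (c * d₂ * e₂ * f₂) = (d₁⁻¹ * d₂) * (e₁⁻¹ * e₂) * (f₁⁻¹ * f₂) := by
      intro c d₁ e₁ f₁ d₂ e₂ f₂ a1 a2 a3 a4 a5 a6 a7
      have b1 : Commute d₁ e₁ := a1
      have b3 : Commute d₂ e₁ := a3
      have b4 : Commute d₁ f₁ := a4
      have b5 : Commute d₂ f₁ := a5
      have b6 : Commute e₁ f₁ := a6
      have b7 : Commute e₂ f₁ := a7
      have c1 : Commute e₁⁻¹ (d₁⁻¹ * d₂) := ((b1.symm.inv_right).mul_right b3.symm).inv_left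
      have c2 : Commute f₁⁻¹ ((d₁⁻¹ * d₂) * (e₁⁻¹ * e₂)) :=
        (((b4.symm.inv_right).mul_right b5.symm).mul_right ((b6.symm.inv_right).mul_right b7.symm)).inv_left
      calc (c * d₁ * e₁ * f₁)⁻¹ * (c * d₂ * e₂ * f₂)
          = f₁⁻¹ * ((e₁⁻¹ * (d₁⁻¹ * d₂)) * e₂) * f₂ := by group
        _ = f₁⁻¹ * (((d₁⁻¹ * d₂) * e₁⁻¹) * e₂) * f₂ := by rw [c1.eq]
        _ = (f₁⁻¹ * ((d₁⁻¹ * d₂) * (e₁⁻¹ * e₂))) * f₂ := by group
        _ = (((d₁⁻¹ * d₂) * (e₁⁻¹ * e₂)) * f₁⁻¹) * f₂ := by rw [c2.eq]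
        _ = _ := by group
    have e0 : x * (y * z) = x * z * y := by ring
    rw [e0, h2 _ _ _ _ _ _ _ (hDE _ _) (hDE _ _) (hDE _ _) (hDF _ _) (hDF _ _) (hEF _ _) (hEF _ _),
      ← hD.neg, ← hE.neg, ← hF.neg, ← hD, ← hE, ← hF] at h1
    have e1 : - -((x * z) ^ 2 * y) + -(x ^ 2 * (y * z)) = x ^ 2 * y := by
      linear_combination x ^ 2 * y * hz
    have e2 : -((x * z) ^ 3 * y) + x ^ 3 * (y * z) = -(z ^ 2 * x ^ 3 * y) := by
      linear_combination (-x ^ 3 * y * z) * hz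
    have e3 : - -((x * z) ^ 3 * y ^ 2) + -(x ^ 3 * (y * z) ^ 2) = z * x ^ 3 * y ^ 2 := by
      linear_combination (x ^ 3 * y ^ 2 * z) * hz
    rwa [e1, e2, e3] at h1
  -- elimination of `D`
  have hH : ∀ t, E (-(z * t)) * F ((1 - z) * t ^ 2) ∈ K := by
    intro t
    have h1 := K.mul_mem (K.inv_mem (hG 1 t)) (hG z ((z - 1) ^ 2 * t))
    have h2 : ∀ (d e₁ f₁ e₂ f₂ : Γ), e₁ * f₁ = f₁ * e₁ → e₂ * f₁ = f₁ * e₂ →
        (d * e₁ * f₁)⁻¹ * (d * e₂ * f₂) = (e₁⁻¹ * e₂) * (f₁⁻¹ * f₂) := by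
      intro d e₁ f₁ e₂ f₂ a1 a2
      have b1 : Commute e₁ f₁ := a1
      have b2 : Commute e₂ f₁ := a2
      have c2 : Commute f₁⁻¹ (e₁⁻¹ * e₂) := ((b1.symm.inv_right).mul_right b2.symm).inv_left
      calc (d * e₁ * f₁)⁻¹ * (d * e₂ * f₂) = (f₁⁻¹ * (e₁⁻¹ * e₂)) * f₂ := by group
        _ = ((e₁⁻¹ * e₂) * f₁⁻¹) * f₂ := by rw [c2.eq]
        _ = _ := by group
    have e0 : z ^ 2 * ((z - 1) ^ 2 * t) = 1 ^ 2 * t := by
      linear_combination ((z ^ 2 - z + 1) * t) * hz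
    rw [e0, h2 _ _ _ _ _ (hEF _ _) (hEF _ _), ← hE.neg, ← hF.neg, ← hE, ← hF] at h1
    have e1 : - -(z ^ 2 * 1 ^ 3 * t) + -(z ^ 2 * z ^ 3 * ((z - 1) ^ 2 * t)) = -(z * t) := by
      linear_combination (-z * t - z ^ 3 * t * (z ^ 2 - z + 1)) * hz
    have e2 : -(z * 1 ^ 3 * t ^ 2) + z * z ^ 3 * ((z - 1) ^ 2 * t) ^ 2 = (1 - z) * t ^ 2 := by
      linear_combination (t ^ 2 * ((z ^ 2 - z - 1) ^ 3 + 4 * (z ^ 2 - z - 1) ^ 2 + 6 * (z ^ 2 - z - 1) + 4)) * hz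
    rwa [e1, e2] at h1
  -- `F`
  have hFK : ∀ t, F t ∈ K := by
    intro t
    have h1 := hH t
    have h2 : B (-(z - 1)) * (E (-(z * t)) * F ((1 - z) * t ^ 2)) * (B (-(z - 1)))⁻¹ *
        (E (-(z * t)) * F ((1 - z) * t ^ 2))⁻¹ ∈ K :=
      K.mul_mem (K.mul_mem (K.mul_mem (hBK _) h1) (K.inv_mem (hBK _))) (K.inv_mem h1)
    have h3 : ∀ (b e f : Γ), b * f = f * b → b * (e * f) * b⁻¹ * (e * f)⁻¹ = b * e * b⁻¹ * e⁻¹ := by
      intro b e f hbf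
      have c1 : Commute f b⁻¹ := (show Commute b f from hbf).symm.inv_right
      calc b * (e * f) * b⁻¹ * (e * f)⁻¹ = b * e * (f * b⁻¹) * f⁻¹ * e⁻¹ := by group
        _ = b * e * (b⁻¹ * f) * f⁻¹ * e⁻¹ := by rw [c1.eq]
        _ = _ := by group
    rw [h3 _ _ _ (hBF _ _), hEB] at h2
    have h4 : -(z * t) * -(z - 1) = t := by linear_combination t * hz
    rwa [h4] at h2
  have hEK : ∀ t, E t ∈ K := by
    intro t
    have h1 := K.mul_mem (hH (-((z - 1) * t))) (K.inv_mem (hFK ((1 - z) * (-((z - 1) * t)) ^ 2)))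
    have h4 : -(z * -((z - 1) * t)) = t := by linear_combination t * hz
    rwa [mul_inv_cancel_right, h4] at h1
  have hDK : ∀ t, D t ∈ K := by
    intro t
    have h1 := K.mul_mem (K.mul_mem (hG 1 t) (K.inv_mem (hFK (z * 1 ^ 3 * t ^ 2))))
      (K.inv_mem (hEK (-(z ^ 2 * 1 ^ 3 * t))))
    rwa [mul_inv_cancel_right, mul_inv_cancel_right, one_pow, one_mul] at h1
  refine ⟨fun t => ?_, hDK, hEK, hFK⟩
  have h1 := K.mul_mem (K.mul_mem (K.mul_mem (hK 1 t) (K.inv_mem (hFK (-(1 ^ 3 * t ^ 2)))))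
    (K.inv_mem (hEK (1 ^ 3 * t)))) (K.inv_mem (hDK (-(1 ^ 2 * t))))
  rwa [mul_inv_cancel_right, mul_inv_cancel_right, mul_inv_cancel_right, one_mul] at h1

end K193.GenAlg
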