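import Groth.Agent.RedSub.K195.PartCell
import Groth.Agent.Sga3B.ChartGood
import Groth.Agent.Sga3B.SplitCent889
import Groth.Agent.RedSub.H636.CellPts
import Groth.Agent.Sga3B.PinComb829
import Groth.Agent.RedSub.H633.PosRoots

/-!
# A subgroup containing the torus meets the root groups not contained in it trivially

`eq_one_of_cell`: if a point of the root group of `a` has coordinates in a partial cell of roots different from `a` then
it is trivial.
`inter_trivial`: `h : H ⟶ G` a monomorphism of groups, `H` contains the torus and has a partial cell (of roots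
different from `a`) as an open subscheme; then `H ∩ U_a` is trivial.
-/

set_option autoImplicit false
universe u

open CategoryTheory MonoidalCategory CartesianMonoidalCategory MonObj GrpObj AlgebraicGeometry

namespace Groth.Agent.RedSub.K193.Inter

open Groth.Agent.Sga3B Groth.Agent.Sga3B.Cell Groth.Agent.Sga3B.PinMod Groth.Agent.Sga3B.DSPts
  Groth.Agent.Sga3B.GaPts Groth.Agent.RedSub.H636.CellPts

variable {S : Scheme.{u}} {G : Over S} [GrpObj G] (D : Red.SplitRed G)

lemma one_comp_u {X : Over S} (a : D.idx) : (1 : X ⟶ Red.Ga S) ≫ D.u a = 1 := by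
  have := (D.rootHom a).1
  exact MonObj.one_comp _

lemma one_comp_i {X : Over S} : (1 : X ⟶ D.T) ≫ D.i = 1 := by
  have := D.maximalTorus.1
  exact MonObj.one_comp _

/-- A point of the root group of `a` in a partial cell without `a` is trivial. -/
theorem eq_one_of_cell (b : D.P.Base) {n m : ℕ} (eneg : Fin n → D.idx) (epos : Fin m → D.idx)
    (hneg : Function.Injective eneg) (hneg' : ∀ k, eneg k ∈ RedSub.negRoots D.P b)
    (hpos : Function.Injective epos) (hpos' : ∀ k, epos k ∈ RedSub.posRoots D.P b)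
    {a : D.idx} (ha : ∀ k, eneg k ≠ a) (ha' : ∀ k, epos k ≠ a) {X : Over S} (x : X ⟶ Red.Ga S)
    (y : Fin n → (X ⟶ Red.Ga S)) (t : X ⟶ D.T) (z : Fin m → (X ⟶ Red.Ga S))
    (h : x ≫ D.u a = (List.ofFn fun k => y k ≫ D.u (eneg k)).prod *
      ((t ≫ D.i) * (List.ofFn fun k => z k ≫ D.u (epos k)).prod)) : x = 1 := by
  rcases Groth.Agent.RedSub.H633.PosRoots.mem_posRoots_or_mem_negRoots b a with h1 | h1
  · have hinj : Function.Injective (Fin.cons a epos : Fin (m + 1) → D.idx) := by
      rw [Fin.cons_injective_iff]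
      exact ⟨fun ⟨k, hk⟩ => ha' k hk, hpos⟩
    have hmem : ∀ k, (Fin.cons a epos : Fin (m + 1) → D.idx) k ∈ RedSub.posRoots D.P b := by
      intro k
      refine Fin.cases ?_ (fun k => ?_) k
      · simpa using h1
      · simpa using hpos' k
    have himm := K195.PartCell.isImmersion_cellMap D b eneg _ hneg hneg' hinj hmem
    have hm1 : Mono (RedSub.cellMap D eneg (Fin.cons a epos)).left := inferInstance
    have hm : Mono (RedSub.cellMap D eneg (Fin.cons a epos)) := Over.mono_of_mono_left _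
    have h2 : lift (powPt n fun _ => (1 : X ⟶ Red.Ga S)) (lift 1 (powPt (m + 1) (Fin.cons x fun _ => 1))) ≫
        RedSub.cellMap D eneg (Fin.cons a epos) =
        lift (powPt n y) (lift t (powPt (m + 1) (Fin.cons 1 z))) ≫ RedSub.cellMap D eneg (Fin.cons a epos) := by
      rw [cellMap_pts, cellMap_pts, List.ofFn_succ, List.ofFn_succ, List.prod_cons, List.prod_cons]
      simp only [Fin.cons_zero, Fin.cons_succ]
      simp only [one_comp_u, one_comp_i, List.ofFn_const, List.prod_replicate, one_pow, _root_.one_mul,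
        _root_.mul_one]
      exact h
    rw [cancel_mono] at h2
    have h3 := congrArg (fun w => w ≫ snd _ _ ≫ snd _ _) h2
    simp only [lift_snd_assoc, lift_snd] at h3
    have h4 := congrFun (powPt_injective _ _ _ h3) 0
    simpa using h4
  · have hinj : Function.Injective (Fin.cons a eneg : Fin (n + 1) → D.idx) := by
      rw [Fin.cons_injective_iff]
      exact ⟨fun ⟨k, hk⟩ => ha k hk, hneg⟩
    have hmem : ∀ k, (Fin.cons a eneg : Fin (n + 1) → D.idx) k ∈ RedSub.negRoots D.P b := by
      intro k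
      refine Fin.cases ?_ (fun k => ?_) k
      · simpa using h1
      · simpa using hneg' k
    have himm := K195.PartCell.isImmersion_cellMap D b _ epos hinj hmem hpos hpos'
    have hm1 : Mono (RedSub.cellMap D (Fin.cons a eneg) epos).left := inferInstance
    have hm : Mono (RedSub.cellMap D (Fin.cons a eneg) epos) := Over.mono_of_mono_left _
    have h2 : lift (powPt (n + 1) (Fin.cons x fun _ => 1)) (lift 1 (powPt m fun _ => (1 : X ⟶ Red.Ga S))) ≫
        RedSub.cellMap D (Fin.cons a eneg) epos =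
        lift (powPt (n + 1) (Fin.cons 1 y)) (lift t (powPt m z)) ≫ RedSub.cellMap D (Fin.cons a eneg) epos := by
      rw [cellMap_pts, cellMap_pts, List.ofFn_succ, List.ofFn_succ, List.prod_cons, List.prod_cons]
      simp only [Fin.cons_zero, Fin.cons_succ]
      simp only [one_comp_u, one_comp_i, List.ofFn_const, List.prod_replicate, one_pow, _root_.one_mul,
        _root_.mul_one]
      exact h
    rw [cancel_mono] at h2
    have h3 := congrArg (fun w => w ≫ fst _ _) h2
    simp only [lift_fst] at h3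
    have h4 := congrFun (powPt_injective _ _ _ h3) 0
    simpa using h4

section trunc

open Polynomial

variable (R : Type u) [CommRing R] (n : ℕ)

/-- truncated polynomials -/
abbrev Tr : Type u := R[X] ⧸ Ideal.span {(X : R[X]) ^ (n + 1)}

/-- the nilpotent variable -/
noncomputable def eps : Tr R n := Ideal.Quotient.mk _ X

/-- evaluation at zero -/
noncomputable def tr0 : Tr R n →ₐ[R] R :=
  Ideal.Quotient.liftₐ _ (aeval (0 : R)) (by
    intro a ha
    obtain ⟨c, rfl⟩ := Ideal.mem_span_singleton.1 ha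
    simp)

lemma tr0_mk (p : R[X]) : tr0 R n (Ideal.Quotient.mk _ p) = p.eval 0 := by
  change aeval (0 : R) p = _
  exact congrFun (coe_aeval_eq_eval (0 : R)) p

lemma eps_pow : eps R n ^ (n + 1) = 0 := by
  rw [eps, ← map_pow, Ideal.Quotient.eq_zero_iff_mem]
  exact Ideal.mem_span_singleton_self _

/-- the unit `1 + ε` -/
noncomputable def un : (Tr R n)ˣ :=
  (IsNilpotent.isUnit_one_add ⟨n + 1, eps_pow R n⟩ : IsUnit (1 + eps R n)).unit

lemma un_val : ((un R n : (Tr R n)ˣ) : Tr R n) = 1 + eps R n := rfl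

/-- the point of `Spec R` is everything in `Spec R[ε]` -/
lemma surj_tr0 : Function.Surjective (Spec.map (CommRingCat.ofHom (tr0 R n : Tr R n →+* R))).base := by
  have h1 : Function.Surjective (tr0 R n : Tr R n →+* R) := by
    intro r
    refine ⟨algebraMap R _ r, ?_⟩
    exact (tr0 R n).commutes r
  have h2 : RingHom.ker (tr0 R n : Tr R n →+* R) ≤ nilradical (Tr R n) := by
    intro x hx
    obtain ⟨p, rfl⟩ := Ideal.Quotient.mk_surjective x
    have h3 : p.eval 0 = 0 := by
      rw [← tr0_mk]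
      exact hx
    obtain ⟨q, rfl⟩ : X ∣ p := by
      rw [X_dvd_iff, coeff_zero_eq_eval_zero, h3]
    rw [map_mul]
    refine Ideal.mul_mem_right _ _ ?_
    exact ⟨n + 1, eps_pow R n⟩
  have h3 := range_comap_of_surjective _ (tr0 R n : Tr R n →+* R) h1
  have h4 : ∀ p : PrimeSpectrum (Tr R n), p ∈ Set.range (PrimeSpectrum.comap (tr0 R n : Tr R n →+* R)) := by
    intro p
    rw [h3, PrimeSpectrum.mem_zeroLocus]
    exact h2.trans (nilradical_le_prime p.asIdeal)
  exact h4

/-- `((1 + ε)^n - 1) f = 0` in `R[ε] / ε^(n+1)` implies `f = 0`. -/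
lemma eq_zero_of_un (hn : 0 < n) (f : R)
    (h : ((un R n : Tr R n) ^ n) * algebraMap R (Tr R n) f = algebraMap R (Tr R n) f) : f = 0 := by
  have h1 : (Ideal.Quotient.mk (Ideal.span {(X : R[X]) ^ (n + 1)})) (((1 + X) ^ n - 1) * C f) = 0 := by
    rw [map_mul, map_sub, map_pow, map_add, map_one, sub_mul, _root_.one_mul, sub_eq_zero]
    exact h
  rw [Ideal.Quotient.eq_zero_iff_mem, Ideal.mem_span_singleton, X_pow_dvd_iff] at h1
  have h2 := h1 n (Nat.lt_succ_self n)
  rw [coeff_mul_C, coeff_sub, coeff_one_add_X_pow, Nat.choose_self, coeff_one, if_neg (by omega)] at h2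
  simpa using h2

end trunc

section main

variable {D}

lemma gaP_zero {R : Type u} [CommRing R] {s : Spec (CommRingCat.of R) ⟶ S} {B : Type u} [CommRing B]
    [Algebra R B] : gaP s (0 : B) = 1 := by
  apply gaFn_injective
  rw [gaFn_gaPt, gaFn_one]
  exact map_zero _

/-- **The intersection with a root group is trivial.** -/
theorem inter_trivial {H : Over S} [GrpObj H] (h : H ⟶ G) [IsMonHom h] [Mono h] (t : D.T ⟶ H)
    (ht : t ≫ h = D.i) (b : D.P.Base) {n m : ℕ} (eneg : Fin n → D.idx) (epos : Fin m → D.idx)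
    (hneg : Function.Injective eneg) (hneg' : ∀ k, eneg k ∈ RedSub.negRoots D.P b)
    (hpos : Function.Injective epos) (hpos' : ∀ k, epos k ∈ RedSub.posRoots D.P b)
    {a : D.idx} (ha : ∀ k, eneg k ≠ a) (ha' : ∀ k, epos k ≠ a)
    (F : RedSub.pow (Red.Ga S) n ⊗ (D.T ⊗ RedSub.pow (Red.Ga S) m) ⟶ H)
    (hF : F ≫ h = RedSub.cellMap D eneg epos) [IsOpenImmersion F.left]
    {X : Over S} (x : X ⟶ Red.Ga S) (y : X ⟶ H) (hxy : x ≫ D.u a = y ≫ h) : x = 1 := by
  have := D.reductive.1
  apply hom_ext_affines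
  intro R _ v
  set s := v ≫ X.hom with hs
  obtain ⟨f, hf⟩ := exists_gaP (B := R) (s := s) (xPt v ≫ x)
  obtain ⟨c⟩ := exists_chart G s
  obtain ⟨lam, hlam⟩ := PinComb.exists_functional_pos D.P a
  obtain ⟨N, hN⟩ : ∃ N : ℕ, lam (D.P.root a) = N := ⟨(lam (D.P.root a)).toNat, by omega⟩
  have hN0 : 0 < N := by omega
  suffices hf0 : f = 0 by
    rw [hf, hf0, gaP_zero]
    exact (MonObj.comp_one _).symm
  let B := Tr R N
  let f' : B := algebraMap R B f
  let y₁ : tB s B ⟶ H := tMap s (Algebra.ofId R B) ≫ xPt v ≫ y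
  have hy₁ : y₁ ≫ h = gaP s f' ≫ D.u a := by
    simp only [y₁, Category.assoc]
    rw [← hxy, ← Category.assoc (xPt v), hf, ← Category.assoc, tMap_gaPt]
    rfl
  let τ : TPt D.M B := (zpowersHom Bˣ (un R N)).comp (AddMonoidHom.toMultiplicative lam)
  have hτ : TPt.ch (D.P.root a) τ = (un R N : B) ^ N := by
    change (((un R N) ^ (lam (D.P.root a)) : Bˣ) : B) = _
    rw [hN, zpow_natCast, Units.val_pow_eq_pow_val]
  obtain ⟨t₀, ht₀⟩ : ∃ t₀ : tB s B ⟶ D.T, t₀ = tP D s τ := ⟨_, rfl⟩
  let g : tB s B ⟶ H := (t₀ ≫ t) * y₁ * (t₀ ≫ t)⁻¹ * y₁⁻¹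
  have hg : g ≫ h = gaP s ((un R N : B) ^ N * f' - f') ≫ D.u a := by
    simp only [g, MonObj.mul_comp, GrpObj.inv_comp, Category.assoc, ht, hy₁]
    have h1 := congrArg (c.pts B) ((c.datum D).rel a τ f')
    rw [map_mul, map_mul, map_inv, pts_i_tP, pts_uu_gaP, pts_uu_gaP, ← ht₀] at h1
    rw [h1, ← pts_uu_gaP D c, ← pts_uu_gaP D c, ← pts_uu_gaP D c, ← map_inv, ← map_mul, ← Datum.uu_neg,
      ← Datum.uu_add, ← sub_eq_add_neg]
    change c.pts B ((c.datum D).uu a B (TPt.ch (D.P.root a) τ * f' - f')) = _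
    rw [hτ]
  -- at `ε = 0` the point is trivial
  have hg0 : tMap s (tr0 R N) ≫ g = 1 := by
    rw [← cancel_mono h, Category.assoc, hg, ← Category.assoc, tMap_gaPt, MonObj.one_comp]
    have h1 : tr0 R N ((un R N : B) ^ N * f' - f') = 0 := by
      have h2 : tr0 R N (un R N : B) = 1 := by
        rw [un_val, map_add, map_one, eps, tr0_mk]
        simp
      rw [map_sub, map_mul, map_pow, h2, one_pow, _root_.one_mul, sub_self]
    rw [h1]
    change gaP s (0 : R) ≫ D.u a = 1
    rw [gaP_zero, one_comp_u]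
  let z₀ : tB s R ⟶ RedSub.pow (Red.Ga S) n ⊗ (D.T ⊗ RedSub.pow (Red.Ga S) m) :=
    lift (powPt n fun _ => 1) (lift 1 (powPt m fun _ => 1))
  have hz₀ : z₀ ≫ F = 1 := by
    rw [← cancel_mono h, Category.assoc, hF, cellMap_pts, show (1 : tB s R ⟶ H) ≫ h = 1 from MonObj.one_comp _]
    simp only [one_comp_u, one_comp_i, List.ofFn_const, List.prod_replicate, one_pow, _root_.one_mul,
      _root_.mul_one]
  have hrange : Set.range g.left ⊆ Set.range F.left := by
    rintro _ ⟨p, rfl⟩
    obtain ⟨q, hq⟩ := surj_tr0 R N p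
    refine ⟨z₀.left q, ?_⟩
    have h1 : (tMap s (tr0 R N) ≫ g).left = (z₀ ≫ F).left := by rw [hg0, hz₀]
    have h2 := congrArg (fun k : (tB s R).left ⟶ H.left => k q) h1
    have h3 : (tMap s (tr0 R N) ≫ g).left q = g.left ((tMap s (tr0 R N)).left q) := rfl
    have h4 : (z₀ ≫ F).left q = F.left (z₀.left q) := rfl
    rw [← h4, ← h2, h3]
    congr 1
  let z : tB s B ⟶ RedSub.pow (Red.Ga S) n ⊗ (D.T ⊗ RedSub.pow (Red.Ga S) m) :=
    Over.homMk (IsOpenImmersion.lift F.left g.left hrange) (by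
      rw [← Over.w F, IsOpenImmersion.lift_fac_assoc, Over.w])
  have hz : z ≫ F = g := by
    ext1
    exact IsOpenImmersion.lift_fac F.left g.left hrange
  obtain ⟨yy, tt, xx, hco⟩ := exists_cell_coords D z
  have h1 : gaP s ((un R N : B) ^ N * f' - f') ≫ D.u a = (List.ofFn fun k => yy k ≫ D.u (eneg k)).prod *
      ((tt ≫ D.i) * (List.ofFn fun k => xx k ≫ D.u (epos k)).prod) := by
    rw [← hg, ← hz, Category.assoc, hF, hco, cellMap_pts]
  have h2 := eq_one_of_cell D b eneg epos hneg hneg' hpos hpos' ha ha' _ yy tt xx h1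
  rw [← gaP_zero (B := B) (s := s)] at h2
  exact eq_zero_of_un R N hN0 f (sub_eq_zero.1 (gaP_injective h2))

end main

end Groth.Agent.RedSub.K193.Inter
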