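import Groth.Agent.RedSub.H633.CellOpenImm
import Groth.Agent.RedSub.H638.PinFull
import Groth.Agent.RedSub.H637.PosRoots

/-!
# Charts of a split reductive group with pinned cell data

`PinChart D b s` : for a splitting `D` of `G`, a base `b` of its root datum and `s : Spec R ⟶ S`, a chart of
`G` over `s` together with a `PinCell` whose torus is the one of `D` and whose root homomorphisms are those of
`D` up to units (`= 1` for positive roots).
* `exists_pinChart` : existence;
* `PinChart.inCell_iff` : a point of the chart is in the big cell `E.cell` iff it is in the image of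
  `RedSub.cellMap`, for any enumerations of the negative and positive roots.
-/

set_option autoImplicit false
universe u

open CategoryTheory MonoidalCategory CartesianMonoidalCategory MonObj GrpObj AlgebraicGeometry
open TensorProduct

namespace K193.PinCh

open Groth.Agent.Sga3B Groth.Agent.Sga3B.Cell Groth.Agent.Sga3B.PinMod
open Groth.Agent.RedSub.H633.SortedCell Groth.Agent.RedSub.H633.CellSch Groth.Agent.RedSub.H633.CellOpenImm

variable {S : Scheme.{u}} {G : Over S} [GrpObj G]

/-- A chart with pinned cell data. -/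
structure PinChart (D : Red.SplitRed G) (b : D.P.Base) {R : Type u} [CommRing R]
    (s : Spec (CommRingCat.of R) ⟶ S) where
  c : Chart G s
  E : PinCell D.P b R c.A
  ε : D.idx → Rˣ
  hε : ∀ a, b.IsPos a → ε a = 1
  hi : ∀ (B : Type u) [CommRing B] [Algebra R B] (t : TPt D.M B), E.i B t = (c.datum D).i B t
  hu : ∀ (a : D.idx) (B : Type u) [CommRing B] [Algebra R B] (x : B),
    E.uu a B x = (c.datum D).uu a B (algebraMap R B (ε a) * x)

theorem exists_pinChart_of_chart (D : Red.SplitRed G) (b : D.P.Base) {R : Type u} [CommRing R]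
    {s : Spec (CommRingCat.of R) ⟶ S} (c : Chart G s) :
    ∃ Q : PinChart D b s, Q.c = c := by
  have : Smooth G.hom := D.reductive.2.1
  have : Algebra.Smooth R c.A := ChartFib.smooth_of_isPullback c.isPullback
  obtain ⟨E, ε, hε, hi, hu⟩ := Groth.Agent.RedSub.H638.PinFull.exists_pinCell_full (D := c.datum D)
    (fun K _ _ => ChartFib.isDomain D.reductive c.isPullback K) (PinModelOf.good D c) D.P
    (fun a => rfl) D.pairing_eq b (fun a _ => by
      obtain ⟨n, hn⟩ := PinModelOf.exists_acts D c a
      exact ⟨n, fun t => PinModelOf.conj_of_acts (D := c.datum D) D.P (fun a => rfl)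
        D.pairing_eq hn t⟩)
  exact ⟨⟨c, E, ε, hε, fun B _ _ t => hi B t, fun a B _ _ x => hu a B x⟩, rfl⟩

theorem exists_pinChart (D : Red.SplitRed G) (b : D.P.Base) {R : Type u} [CommRing R]
    (s : Spec (CommRingCat.of R) ⟶ S) : Nonempty (PinChart D b s) := by
  have : IsAffineHom G.hom := D.reductive.1
  obtain ⟨c⟩ := exists_chart G s
  obtain ⟨Q, -⟩ := exists_pinChart_of_chart D b c
  exact ⟨Q⟩

namespace PinChart

variable {D : Red.SplitRed G} {b : D.P.Base} {R : Type u} [CommRing R]
  {s : Spec (CommRingCat.of R) ⟶ S} (Q : PinChart D b s) {B : Type u} [CommRing B] [Algebra R B]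

lemma cell_eq (x : D.idx → B) (t : TPt D.M B) :
    Q.E.cell x t = (Q.c.datum D).cell (allList b) (fun a => algebraMap R B (Q.ε a) * x a) t := by
  unfold PinCell.cell Datum.cell
  rw [Q.hi]
  congr 1
  congr 1
  apply List.map_congr_left
  intro a _
  exact Q.hu a B (x a)

lemma exists_cell_eq (y : D.idx → B) (t : TPt D.M B) :
    ∃ x : D.idx → B, Q.E.cell x t = (Q.c.datum D).cell (allList b) y t := by
  refine ⟨fun a => algebraMap R B ((Q.ε a)⁻¹ : Rˣ) * y a, ?_⟩
  rw [Q.cell_eq]
  congr 1
  funext a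
  rw [← _root_.mul_assoc, ← map_mul, Units.mul_inv, map_one, _root_.one_mul]

lemma sorted_allList {lam : D.M →+ ℤ}
    (h2 : ∀ a, a ∈ RedSub.posRoots D.P b ↔ 0 < lam (D.P.root a))
    (h3 : ∀ a, a ∈ RedSub.negRoots D.P b ↔ lam (D.P.root a) < 0) :
    Sorted (Q.c.datum D) (fun a => lam (D.P.root a)) (allList b) where
  nodup := allList_nodup b
  mem := mem_allList b
  split := ⟨negList b, posList b, rfl, fun a ha => (h3 a).1
      ((Groth.Agent.RedSub.H637.PosRoots.mem_negRoots_iff b a).2 ((mem_negList b).1 ha)),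
    fun a ha => (h2 a).1
      ((Groth.Agent.RedSub.H637.PosRoots.mem_posRoots_iff b a).2 ((mem_posList b).1 ha))⟩

/-- **The big cell of a pinned chart and the image of `RedSub.cellMap`**, on points. -/
theorem inCell_iff {n m : ℕ} {eneg : Fin n → D.idx} {epos : Fin m → D.idx}
    (hneg : RedSub.Enumerates (RedSub.negRoots D.P b) eneg)
    (hpos : RedSub.Enumerates (RedSub.posRoots D.P b) epos) (g : Pt R Q.c.A B) :
    (∃ (x : D.idx → B) (t : TPt D.M B), g = Q.E.cell x t) ↔
      ∃ Z : tB s B ⟶ RedSub.pow (Red.Ga S) n ⊗ (D.T ⊗ RedSub.pow (Red.Ga S) m),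
        Z ≫ RedSub.cellMap D eneg epos = Q.c.pts B g := by
  obtain ⟨lam, h1, h2, h3, h⟩ := SignEnum.of_base b hneg hpos
  have hG := Q.c.good848 D
  have hs := Q.sorted_allList h2 h3
  constructor
  · rintro ⟨x, t, rfl⟩
    obtain ⟨z, hz⟩ := hs.exists_eq hG lam h.reg (h.sorted Q.c) (fun a => algebraMap R B (Q.ε a) * x a) t
    exact ⟨cellPt D s eneg epos z t, by rw [cellPt_cellMap D s Q.c, Q.cell_eq]; exact congrArg _ hz.symm⟩
  · rintro ⟨Z, hZ⟩
    obtain ⟨z, t, rfl⟩ := exists_cellPt (D := D) s h.neg_inj h.pos_inj h.comp Z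
    obtain ⟨y, hy⟩ := (h.sorted Q.c).exists_eq hG lam h.reg hs z t
    obtain ⟨x, hx⟩ := Q.exists_cell_eq y t
    refine ⟨x, t, ?_⟩
    apply (Q.c.pts B).injective
    rw [← hZ, cellPt_cellMap D s Q.c, hx]
    exact congrArg _ hy

end PinChart

end K193.PinCh
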