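import Groth.Agent.RedSub.K199.RCBc
import Groth.Agent.RedSub.K199.TypeRPull
import Groth.Agent.Redsub.H649.ConjLoc
import Groth.Agent.RedSub.H660.ConjRep
import Groth.Agent.RedSub.H650.QuotPts
import Groth.Agent.Red.K214.EtaleSub
import Groth.Agent.S3961
import Groth.Agent.S3960
import Groth.Agent.S3990
import Groth.Agent.AGF.K494.NormPts

/-!
# The family of conjugates of a subgroup of type (RC) and the fibre of the class map
-/

set_option autoImplicit false
universe u

open CategoryTheory CategoryTheory.Limits MonoidalCategory CartesianMonoidalCategory MonObj GrpObj AlgebraicGeometry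

namespace K193.RCFib

open Groth.Agent Groth.Agent.Sga3B Groth.Agent.Sga3B.MT
open Groth.Agent.Sga3B.BcPts hiding fam
open Groth.Agent.Redsub.H649.ConjPts Groth.Agent.Redsub.H649.QuotCrit

section fam

variable {S S' : Scheme.{u}} {f : S' ⟶ S} {G B : Over S} [GrpObj G] [GrpObj B] (i : B ⟶ G)

theorem isTypeR_fam (hG : Red.IsReductive G) (hi : _root_.RedSub.IsTypeR i) (g₀ : Over.mk f ⟶ G) :
    _root_.RedSub.IsTypeR (fam i g₀) := by
  have : IsMonHom (cjIso g₀).hom := isMonHom_cj g₀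
  refine Groth.Agent.RedSub.H648.TypeR.isTypeR_of_arrow (Iso.refl _) (Grp.mkIso' (cjIso g₀)) ?_
    (Groth.Agent.RedSub.H648.TypeR.isTypeR_bc f hG hi)
  exact (Category.id_comp _).symm

theorem isRC_fam (hG : Red.IsReductive G) (hi : _root_.RedSub.IsTypeR i) (hRC : K199.RC.IsRC i)
    (g₀ : Over.mk f ⟶ G) : K199.RC.IsRC (fam i g₀) := by
  have : IsMonHom (cjIso g₀).hom := isMonHom_cj g₀
  refine K199.RC.IsRC.of_arrow (Iso.refl _) (Grp.mkIso' (cjIso g₀)) ?_ (hRC.bc f hG hi)
  exact (Category.id_comp _).symm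

omit [GrpObj B] in
/-- two families of conjugates are conjugate -/
theorem exists_conjEq_fam (g₀ g₁ : Over.mk f ⟶ G) :
    ∃ c : 𝟙_ (Over S') ⟶ Red.bc f G, _root_.RedSub.ConjEq (fam i g₀) (fam i g₁) c := by
  refine ⟨toE f _ ≫ (bcPt (𝟙 _) g₁ * (bcPt (𝟙 _) g₀)⁻¹), fun X x => ⟨fun t => ⟨t, ?_⟩, fun t => ⟨t, ?_⟩⟩⟩
  all_goals
    have h1 : ∀ (g : Over.mk f ⟶ G), t ≫ fam i g = (toE f X ≫ bcPt (𝟙 _) g) * (t ≫ (Over.pullback f).map i) *
        (toE f X ≫ bcPt (𝟙 _) g)⁻¹ := by
      intro g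
      rw [fam, ← Category.assoc, comp_cj]
    rw [← Category.assoc, comp_toE, h1, h1, MonObj.comp_mul, GrpObj.comp_inv]
    group

omit [GrpObj B] in
/-- the geometric fibres of two families of conjugates are conjugate -/
theorem exists_conjEq_geom (g₀ g₁ : Over.mk f ⟶ G) (s : S') :
    ∃ gpt : 𝟙_ _ ⟶ Red.geomFibre s (Red.bc f G),
      _root_.RedSub.ConjEq ((Over.pullback (Red.geomPt s)).map (fam i g₀))
        ((Over.pullback (Red.geomPt s)).map (fam i g₁)) gpt := by
  obtain ⟨c, hc⟩ := exists_conjEq_fam i g₀ g₁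
  refine ⟨bcEquiv (Red.geomPt s) (𝟙_ _) (Red.bc f G) (toUnit _ ≫ c), ?_⟩
  rw [Groth.Agent.Redsub.H649.ConjLoc.conjEq_bc_iff, Equiv.symm_apply_apply]
  exact Groth.Agent.Redsub.H649.ConjLoc.conjEq_comp hc _

omit [GrpObj B] in
lemma fam_one : fam i (1 : Over.mk f ⟶ G) = (Over.pullback f).map i := by
  have h1 : bcPt (𝟙 (Over.mk f)) (1 : Over.mk f ⟶ G) = 1 := by
    have h := bcPt_mul (𝟙 (Over.mk f)) (1 : Over.mk f ⟶ G) 1
    rw [_root_.mul_one] at h
    exact (mul_eq_left.mp h.symm)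
  rw [fam, comp_cj, h1, MonObj.comp_one]
  group

end fam

section main

variable {S : Scheme.{u}} {G : Over S} [GrpObj G]

/-- the universal property of the functor of subgroups of type (RC) -/
def Univ (G : Over S) [GrpObj G] (M : Over S) {H : Over M.left} (h : H ⟶ Red.bc M.hom G) : Prop :=
  ∀ (S' : Scheme.{u}) (f : S' ⟶ S) (H' : Over S') [GrpObj H'] (h' : H' ⟶ Red.bc f G), _root_.RedSub.IsTypeR h' →
    K199.RC.IsRC h' → ∃! g : S' ⟶ M.left, g ≫ M.hom = f ∧ _root_.RedSub.SamePoints G f h' M h g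

/-- the property of the class map -/
def ClassMap (G : Over S) [GrpObj G] (M : Over S) {H : Over M.left} (h : H ⟶ Red.bc M.hom G) {Cl : Over S}
    (cl : M ⟶ Cl) : Prop :=
  ∀ (S' : Scheme.{u}) (f : S' ⟶ S) (H₁ H₂ : Over S') [GrpObj H₁] [GrpObj H₂] (h₁ : H₁ ⟶ Red.bc f G)
    (h₂ : H₂ ⟶ Red.bc f G) (g₁ g₂ : S' ⟶ M.left), _root_.RedSub.IsTypeR h₁ → _root_.RedSub.IsTypeR h₂ →
    g₁ ≫ M.hom = f → g₂ ≫ M.hom = f → _root_.RedSub.SamePoints G f h₁ M h g₁ →
    _root_.RedSub.SamePoints G f h₂ M h g₂ →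
    (g₁ ≫ cl.left = g₂ ≫ cl.left ↔
      ∀ s : ↥S', ∃ gpt : 𝟙_ _ ⟶ Red.geomFibre s (Red.bc f G),
        _root_.RedSub.ConjEq ((Over.pullback (Red.geomPt s)).map h₁) ((Over.pullback (Red.geomPt s)).map h₂) gpt)

variable (hG : Red.IsReductive G) {M : Over S} {H : Over M.left} [GrpObj H] {h : H ⟶ Red.bc M.hom G}
  (hh : _root_.RedSub.IsTypeR h) (huniv : Univ G M h) {Cl : Over S} {cl : M ⟶ Cl}
  (hcl : ClassMap G M h cl) {H₀ N : Over S} [GrpObj H₀] [GrpObj N] {i₀ : H₀ ⟶ G} (hH₀ : _root_.RedSub.IsTypeR i₀)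
  (hRC₀ : K199.RC.IsRC i₀) {n : N ⟶ G} (hN : Red.IsNormalizerOf i₀ n)

include hG huniv hH₀ hRC₀ in
omit [GrpObj H] in
lemma classifies : Classifies i₀ M h := fun S' f g₀ =>
  huniv S' f _ (fam i₀ g₀) (isTypeR_fam i₀ hG hH₀ g₀) (isRC_fam i₀ hG hH₀ hRC₀ g₀)

include hG hcl hH₀ in
omit [GrpObj H] in
/-- the class of a conjugate -/
lemma cl_eq {q : G.left ⟶ M.left} (hqM : q ≫ M.hom = G.hom)
    (hq : _root_.RedSub.SamePoints G G.hom (RedSub.conjFamily i₀) M h q) {S' : Scheme.{u}} {f : S' ⟶ S}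
    (g₀ g₁ : Over.mk f ⟶ G) : (g₀.left ≫ q) ≫ cl.left = (g₁.left ≫ q) ≫ cl.left := by
  have hw : ∀ g : Over.mk f ⟶ G, (g.left ≫ q) ≫ M.hom = f := by
    intro g
    rw [Category.assoc, hqM]
    exact Over.w g
  exact (hcl S' f _ _ (fam i₀ g₀) (fam i₀ g₁) _ _ (isTypeR_fam i₀ hG hH₀ g₀) (isTypeR_fam i₀ hG hH₀ g₁) (hw g₀)
    (hw g₁) (samePoints_of_conjFamily hqM hq g₀) (samePoints_of_conjFamily hqM hq g₁)).2
      fun s => exists_conjEq_geom i₀ g₀ g₁ s

omit [GrpObj G] in
/-- invariance under isomorphism -/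
lemma isLQP_of_iso {Q Q' : Over S} (e : Q ≅ Q') (hQ : RedSub.IsLocallyQuasiProjective Q) :
    RedSub.IsLocallyQuasiProjective Q' := by
  intro s
  obtain ⟨V, hs, m, j, hj, hj'⟩ := hQ s
  have h1 : IsIso ((Over.pullback V.ι).map e.inv).left :=
    inferInstanceAs (IsIso ((Over.forget _).map ((Over.pullback V.ι).map e.inv)))
  refine ⟨V, hs, m, ((Over.pullback V.ι).map e.inv).left ≫ j, inferInstance, ?_⟩
  rw [Category.assoc, hj']
  exact Over.w ((Over.pullback V.ι).map e.inv)

/-- the unit section -/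
lemma one_left {S' : Scheme.{u}} (f : S' ⟶ S) : (1 : Over.mk f ⟶ G).left = f ≫ η[G].left := by
  rw [Hom.one_def, Over.comp_left]
  rfl

include hG hh huniv hcl hH₀ hRC₀ hN in
/-- the fibre of the class map over a section `u` through which the class map of the family of conjugates factors -/
theorem main_aux [Etale Cl.hom] [Smooth cl.left] (q : G ⟶ M)
    (hq : _root_.RedSub.SamePoints G G.hom (RedSub.conjFamily i₀) M h q.left) (u : S ⟶ Cl.left)
    (hus : u ≫ Cl.hom = 𝟙 S) (hq1 : q.left ≫ cl.left = G.hom ≫ u)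
    (hu : ∀ {S' : Scheme.{u}} {f : S' ⟶ S} (g₀ : Over.mk f ⟶ G), (g₀.left ≫ q.left) ≫ cl.left = f ≫ u) :
      IsOpenImmersion (pullback.fst cl.left u) ∧
      Smooth (pullback.snd cl.left u) ∧
      Surjective (pullback.snd cl.left u) ∧
      RedSub.IsLocallyQuasiProjective (Over.mk (pullback.snd cl.left u)) ∧
      RedSub.IsQuotient n (Over.homMk (pullback.lift q.left G.hom hq1)
        (pullback.lift_snd q.left G.hom hq1) : G ⟶ Over.mk (pullback.snd cl.left u)) := by
  have hcM := classifies hG huniv hH₀ hRC₀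
  have hqM : q.left ≫ M.hom = G.hom := Over.w q
  have hopen : IsOpenImmersion u := K214.EtaleSub.isOpenImmersion_of_section Cl.hom u hus
  have hpM : pullback.fst cl.left u ≫ M.hom = pullback.snd cl.left u := by
    rw [← Over.w cl, ← Category.assoc, pullback.condition, Category.assoc, hus, Category.comp_id]
  -- the family over the fibre
  let M' : Over S := Over.mk (pullback.snd cl.left u)
  obtain ⟨H', _, h', hH', hsp⟩ : ∃ (H' : Over M'.left) (_ : GrpObj H') (h' : H' ⟶ Red.bc M'.hom G),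
      _root_.RedSub.IsTypeR h' ∧ _root_.RedSub.SamePoints G M'.hom h' M h (pullback.fst cl.left u) :=
    K199.TypeRPull.exists_pull hG h hh (pullback.fst cl.left u) (pullback.snd cl.left u) hpM
  -- it classifies the conjugates
  have hcM' : Classifies i₀ M' h' := by
    intro S' f g₀
    obtain ⟨g, ⟨hg1, hg2⟩, hg3⟩ := hcM S' f g₀
    have e1 : g = g₀.left ≫ q.left := by
      refine (hg3 _ ⟨?_, samePoints_of_conjFamily hqM hq g₀⟩).symm
      rw [Category.assoc, hqM]
      exact Over.w g₀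
    have e2 : g ≫ cl.left = f ≫ u := by rw [e1, hu]
    refine ⟨pullback.lift g f e2, ⟨pullback.lift_snd _ _ _, ?_⟩, ?_⟩
    · rw [samePoints_iff] at hg2 hsp ⊢
      intro X y c
      rw [hg2, hsp, Category.assoc, pullback.lift_fst]
    · rintro g' ⟨hg1', hg2'⟩
      apply pullback.hom_ext
      · rw [pullback.lift_fst]
        refine hg3 _ ⟨?_, ?_⟩
        · rw [Category.assoc, hpM]
          exact hg1'
        · rw [samePoints_iff] at hg2' hsp ⊢
          intro X y c
          rw [hg2', hsp, Category.assoc]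
      · rw [pullback.lift_snd]
        exact hg1'
  -- it is étale locally a conjugate
  have hloc : LocConj i₀ M' h' := by
    apply Groth.Agent.Redsub.H649.ConjLoc.locConj_of_conjEq
    intro m
    have h1 : _root_.RedSub.IsTypeR ((Over.pullback M'.hom).map i₀) :=
      Groth.Agent.RedSub.H648.TypeR.isTypeR_bc M'.hom hG hH₀
    have h2 := (hcl M'.left M'.hom _ _ (fam i₀ (1 : Over.mk M'.hom ⟶ G)) h' _ (pullback.fst cl.left u)
      (isTypeR_fam i₀ hG hH₀ _) hH' (by rw [Category.assoc, hqM]; exact Over.w _) hpM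
      (samePoints_of_conjFamily hqM hq _) hsp).1 (by rw [hu]; exact pullback.condition.symm)
    rw [fam_one] at h2
    obtain ⟨U, f, hf, hm, g, hg⟩ := Groth.Agent.S3961.result (Sga3B.RedBcAny636.isReductive_bc M'.hom hG)
      ((Over.pullback M'.hom).map i₀) h' h1 hH' h2 m
    exact ⟨U, f, inferInstance, inferInstance, hm, g, hg⟩
  obtain ⟨N₀, _, n₀, hN₀, -, hN₀s⟩ := Groth.Agent.S3960.result hG i₀ hH₀
  have hNs : Smooth N.hom := by
    obtain ⟨e, -⟩ := K494.NormPts.exists_iso_of_isNormalizerOf hN hN₀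
    have h1 : IsIso e.hom.left := inferInstanceAs (IsIso ((Over.forget _).map e.hom))
    rw [← Over.w e.hom]
    infer_instance
  obtain ⟨q', hq', hquot, hsm⟩ := exists_quotient hN hNs hcM' hloc
  have hq'' : q' = Over.homMk (pullback.lift q.left G.hom hq1) (pullback.lift_snd q.left G.hom hq1) := by
    ext1
    apply pullback.hom_ext
    · change q'.left ≫ pullback.fst _ _ = pullback.lift q.left G.hom hq1 ≫ pullback.fst _ _
      rw [pullback.lift_fst]
      have h2 : ∀ r : G ⟶ M, _root_.RedSub.SamePoints G G.hom (RedSub.conjFamily i₀) M h r.left →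
          _root_.RedSub.SamePoints G G.hom (fam i₀ (taut G)) M h r.left := by
        intro r hr
        have h3 := samePoints_of_conjFamily (Over.w r) hr (taut G)
        have h5 : (taut G).left ≫ r.left = r.left := Category.id_comp _
        rwa [h5] at h3
      let r : G ⟶ M := Over.homMk (q'.left ≫ pullback.fst cl.left u) (by
        rw [Category.assoc, hpM]
        exact Over.w q')
      have h4 : _root_.RedSub.SamePoints G G.hom (RedSub.conjFamily i₀) M h r.left := by
        rw [samePoints_iff] at hq' hsp ⊢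
        intro X y c
        rw [hq', hsp, Category.assoc]
        rfl
      exact (hcM G.left G.hom (taut G)).unique ⟨Over.w r, h2 r h4⟩ ⟨hqM, h2 q hq⟩
    · change q'.left ≫ pullback.snd _ _ = pullback.lift q.left G.hom hq1 ≫ pullback.snd _ _
      rw [pullback.lift_snd]
      exact Over.w q'
  subst hq''
  have hsurjG : Surjective G.hom := by
    have h1 : η[G].left ≫ G.hom = 𝟙 S := Over.w η[G]
    exact ⟨fun s => ⟨η[G].left s, by rw [← Scheme.Hom.comp_apply, h1]; rfl⟩⟩
  obtain ⟨Q, qQ, hQ1, hQ2, hQ3, hQ4, hQ5⟩ := Groth.Agent.S3990.result hG i₀ hH₀ n hN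
  obtain ⟨e, he⟩ := Groth.Agent.RedSub.H650.QuotPts.exists_iso hQ1 hquot
  refine ⟨inferInstance, ?_, ?_, isLQP_of_iso e hQ5, hquot⟩
  · have h1 : IsIso e.inv.left := inferInstanceAs (IsIso ((Over.forget _).map e.inv))
    have h2 : e.inv.left ≫ Q.hom = pullback.snd cl.left u := Over.w e.inv
    rw [← h2]
    infer_instance
  · have h2 : pullback.lift q.left G.hom hq1 ≫ pullback.snd cl.left u = G.hom := pullback.lift_snd _ _ _
    have h3 : Surjective (pullback.lift q.left G.hom hq1 ≫ pullback.snd cl.left u) := by rw [h2]; exact hsurjG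
    exact Surjective.of_comp (pullback.lift q.left G.hom hq1) (pullback.snd cl.left u)

include hG hh huniv hcl hH₀ hRC₀ hN in
/-- **The orbit is the fibre of the class map.** -/
theorem main [Etale Cl.hom] [Smooth cl.left] :
    ∃ (q : G ⟶ M) (hq : q.left ≫ cl.left = G.hom ≫ (η[G].left ≫ q.left ≫ cl.left)),
      _root_.RedSub.SamePoints G G.hom (RedSub.conjFamily i₀) M h q.left ∧
      IsOpenImmersion (pullback.fst cl.left (η[G].left ≫ q.left ≫ cl.left)) ∧
      Smooth (pullback.snd cl.left (η[G].left ≫ q.left ≫ cl.left)) ∧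
      Surjective (pullback.snd cl.left (η[G].left ≫ q.left ≫ cl.left)) ∧
      RedSub.IsLocallyQuasiProjective (Over.mk (pullback.snd cl.left (η[G].left ≫ q.left ≫ cl.left))) ∧
      RedSub.IsQuotient n (Over.homMk (pullback.lift q.left G.hom hq)
        (pullback.lift_snd q.left G.hom hq) :
          G ⟶ Over.mk (pullback.snd cl.left (η[G].left ≫ q.left ≫ cl.left))) := by
  have hcM := classifies hG huniv hH₀ hRC₀
  obtain ⟨q, hq⟩ := exists_classifying hcM
  have hqM : q.left ≫ M.hom = G.hom := Over.w q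
  have hu : ∀ {S' : Scheme.{u}} {f : S' ⟶ S} (g₀ : Over.mk f ⟶ G),
      (g₀.left ≫ q.left) ≫ cl.left = f ≫ (η[G].left ≫ q.left ≫ cl.left) := by
    intro S' f g₀
    rw [cl_eq hG hcl hH₀ hqM hq g₀ 1, one_left]
    simp only [Category.assoc]
  have hq1 : q.left ≫ cl.left = G.hom ≫ (η[G].left ≫ q.left ≫ cl.left) := by
    have h3 := hu (taut G)
    have h5 : (taut G).left ≫ q.left = q.left := Category.id_comp _
    rwa [h5] at h3
  have hus : (η[G].left ≫ q.left ≫ cl.left) ≫ Cl.hom = 𝟙 S := by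
    rw [Category.assoc, Category.assoc, Over.w cl, hqM]
    exact Over.w η[G]
  exact ⟨q, hq1, hq, main_aux hG hh huniv hcl hH₀ hRC₀ hN q hq _ hus hq1 hu⟩

end main

end K193.RCFib
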