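import Groth.Agent.Red.K214.ChevComm
import Groth.Agent.Red.K214.ZModel
import Groth.Agent.Red.K214.ChainComb
import Groth.Agent.Red.K214.PairComb
import Groth.Agent.Red.K214.EmptyBase
import Groth.Agent.Red.K217.GoldCover
import Groth.Agent.Red.K216.Fppf
import Groth.Agent.Red.K213.CommSplit
import Groth.Agent.RedSub.K193.GenAlg
import Groth.Agent.RedSub.K199.RootCmp
import Groth.Agent.RedSub.H633.PosRoots
import Groth.Prelude.Def_RedSub

/-!
# A subgroup containing the simple root groups contains the positive ones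
-/

set_option autoImplicit false
universe u
open CategoryTheory MonoidalCategory CartesianMonoidalCategory MonObj GrpObj AlgebraicGeometry Limits

namespace K193.SimpleGen

open Groth.Agent.Sga3B Groth.Agent.Sga3B.DSPts Groth.Agent.Sga3B.GaPts K214.FnForm K214.ChevDual
  K214.PairComb K214.ChevComm

variable {S : Scheme.{u}}

section cov

open K217.GoldCover

instance : LocallyOfFinitePresentation p0.{u} := by
  rw [p0, LocallyOfFinitePresentation.SpecMap_iff]
  exact RingHom.finitePresentation_algebraMap.mpr inferInstance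

instance : LocallyOfFinitePresentation (cov S).hom :=
  inferInstanceAs (LocallyOfFinitePresentation (pullback.fst _ _))

variable {G H : Over S} [GrpObj G] [GrpObj H]

/-- The points of `G` which lie in `H`. -/
def KK (h : H ⟶ G) [IsMonHom h] (X : Over S) : Subgroup (X ⟶ G) where
  carrier := {g | ∃ y : X ⟶ H, y ≫ h = g}
  mul_mem' := by
    rintro _ _ ⟨y, rfl⟩ ⟨y', rfl⟩
    exact ⟨y * y', MonObj.mul_comp _ _ _⟩
  one_mem' := ⟨1, MonObj.one_comp _⟩
  inv_mem' := by
    rintro _ ⟨y, rfl⟩
    exact ⟨y⁻¹, GrpObj.inv_comp _ _⟩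

variable (h : H ⟶ G) [IsMonHom h] [Mono h]

omit [Mono h] in
lemma mem_KK {X : Over S} {g : X ⟶ G} : g ∈ KK h X ↔ ∃ y : X ⟶ H, y ≫ h = g := Iff.rfl

/-- all values of `w` are in `H` -/
def In (w : Red.Ga S ⟶ G) : Prop := ∀ (X : Over S) (x : Γ(X.left, ⊤)), V w X x ∈ KK h X

omit [Mono h] in
lemma in_iff {w : Red.Ga S ⟶ G} : In h w ↔ ∃ v : Red.Ga S ⟶ H, v ≫ h = w := by
  constructor
  · intro hw
    obtain ⟨y, hy⟩ := hw (Red.Ga S) (Red.gaFn (𝟙 _))
    exact ⟨y, by rw [hy, V_gaFn, Category.id_comp]⟩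
  · rintro ⟨v, rfl⟩ X x
    exact ⟨gaPt X x ≫ v, Category.assoc _ _ _⟩

/-- It suffices to have a solution of `z² = z + 1`. -/
lemma in_of_gold {w : Red.Ga S ⟶ G} (hw : ∀ (X : Over S) (z : Γ(X.left, ⊤)), z ^ 2 = z + 1 →
    ∀ x, V w X x ∈ KK h X) : In h w := by
  intro X x
  have h1 : (fst X (cov S)).left = pullback.fst X.hom (cov S).hom := rfl
  have h2 : Flat (fst X (cov S)).left := by rw [h1]; infer_instance
  have h3 : Surjective (fst X (cov S)).left := by rw [h1]; infer_instance
  have h4 : LocallyOfFinitePresentation (fst X (cov S)).left := by rw [h1]; infer_instance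
  refine K216.Fppf.Cov.factor (c := fst X (cov S)) ⟨h2, h3, h4⟩ h _ ?_
  rw [comp_V]
  refine hw _ ((snd X (cov S)).left.appTop (zz S)) ?_ _
  rw [← map_pow, pow_two, zz_mul, map_add, map_one]

end cov

variable {G H : Over S} [GrpObj G] [GrpObj H] (h : H ⟶ G) [IsMonHom h] [Mono h]
  {D : Red.SplitRed G} {v vd : D.idx → (Red.Ga S ⟶ G)} {σ : D.idx → D.idx → ℤ}
  (C : Chv D v vd σ) (Δ : D.P.Base) {a b : D.idx}

lemma add_V (w : Red.Ga S ⟶ G) [IsMonHom w] {X : Over S} (m : Γ(X.left, ⊤)) :
    GenAlg.Add (fun x : Γ(X.left, ⊤) => V w X (m * x)) := by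
  intro x y
  change V w X (m * (x + y)) = _
  rw [_root_.mul_add, V_add]

omit [IsMonHom h] [Mono h] in
lemma of_sign {c e : D.idx} (hs : σ c e = 1 ∨ σ c e = -1) {w : Red.Ga S ⟶ G} {X : Over S}
    {P : (X ⟶ G) → Prop} (hw : ∀ x : Γ(X.left, ⊤), P (V w X ((σ c e : Γ(X.left, ⊤)) * x))) :
    ∀ x, P (V w X x) := by
  intro x
  have := hw ((σ c e : Γ(X.left, ⊤)) * x)
  rcases hs with h1 | h1 <;> simpa [h1] using this

include C Δ in
omit [Mono h] in
lemma case_a2 (hI : Ind D.P a b) (pba : D.P.pairing b a = -1) (pab : D.P.pairing a b = -1)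
    (ha : In h (v a)) (hb : In h (v b)) : In h (v (D.P.reflectionPerm b a)) := by
  intro X
  exact of_sign (C.sgn b a) (P := fun g => g ∈ KK h X)
    (fun t => GenAlg.a2 (KK h X) (A := fun x => V (v a) X x) (B := fun x => V (v b) X x)
      (C := fun x => V (v (D.P.reflectionPerm b a)) X ((σ b a : Γ(X.left, ⊤)) * x))
      (ha X) (hb X) (a2_pts C Δ hI pba pab X) t)

include C Δ in
lemma case_b2 (hI : Ind D.P a b) (pba : D.P.pairing b a = -2) (pab : D.P.pairing a b = -1)
    (ha : In h (v a)) (hb : In h (v b)) :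
    In h (v (D.P.reflectionPerm b a)) ∧ In h (v (D.P.reflectionPerm a b)) := by
  have := (C.root (D.P.reflectionPerm a b)).1
  have key : ∀ (X : Over S) (z : Γ(X.left, ⊤)), z ^ 2 = z + 1 →
      (∀ x, V (v (D.P.reflectionPerm b a)) X x ∈ KK h X) ∧
      ∀ x, V (v (D.P.reflectionPerm a b)) X x ∈ KK h X := by
    intro X z hz
    obtain ⟨h1, h2⟩ := GenAlg.b2 (KK h X) z hz (A := fun x => V (v a) X x) (B := fun x => V (v b) X x)
      (C := fun x => V (v (D.P.reflectionPerm b a)) X ((σ b a : Γ(X.left, ⊤)) * x))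
      (D := fun x => V (v (D.P.reflectionPerm a b)) X ((σ a b : Γ(X.left, ⊤)) * x))
      (add_V _ _) (ha X) (hb X) (fun x y => (b2_pts C Δ hI pba pab X x y).1)
    exact ⟨of_sign (C.sgn b a) (P := fun g => g ∈ KK h X) h1,
      of_sign (C.sgn a b) (P := fun g => g ∈ KK h X) h2⟩
  exact ⟨in_of_gold h fun X z hz => (key X z hz).1, in_of_gold h fun X z hz => (key X z hz).2⟩

include C in
lemma comm_V {c e : D.idx} (h0 : D.P.root c + D.P.root e ≠ 0)
    (hn : D.P.root c + D.P.root e ∉ Set.range D.P.root) {X : Over S} (x y : Γ(X.left, ⊤)) :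
    V (v c) X x * V (v e) X y = V (v e) X y * V (v c) X x :=
  K213.CommSplit.comm (withU D v C.root) h0 hn (gaPt X x) (gaPt X y)

include C Δ in
lemma case_g2 (hI : Ind D.P a b) (pba : D.P.pairing b a = -3) (pab : D.P.pairing a b = -1)
    (ha : In h (v a)) (hb : In h (v b)) :
    In h (v (D.P.reflectionPerm b a)) ∧
      In h (v (D.P.reflectionPerm a (D.P.reflectionPerm b a))) ∧
      In h (v (D.P.reflectionPerm a b)) ∧
      In h (v (D.P.reflectionPerm b (D.P.reflectionPerm a b))) := by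
  have hc : D.P.root (D.P.reflectionPerm b a) = (1 : ℤ) • D.P.root a + (1 : ℤ) • D.P.root b := by
    have := refl_right (P := D.P) (a := a) (b := b) (d := a) (i := 1) (j := 0) (by module)
    rw [this, pab]; module
  have hd : D.P.root (D.P.reflectionPerm a (D.P.reflectionPerm b a)) =
      (2 : ℤ) • D.P.root a + (1 : ℤ) • D.P.root b := by
    rw [refl_left hc, pba]; module
  have he : D.P.root (D.P.reflectionPerm a b) = (3 : ℤ) • D.P.root a + (1 : ℤ) • D.P.root b := by
    have := refl_left (P := D.P) (a := a) (b := b) (d := b) (i := 0) (j := 1) (by module)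
    rw [this, pba]; module
  have hf : D.P.root (D.P.reflectionPerm b (D.P.reflectionPerm a b)) =
      (3 : ℤ) • D.P.root a + (2 : ℤ) • D.P.root b := by
    rw [refl_right he, pab]; module
  have hb' : D.P.root b = (0 : ℤ) • D.P.root a + (1 : ℤ) • D.P.root b := by module
  -- no root `i a + j b` except the four
  have nr : ∀ (i j : ℤ), 0 < i → 0 < j → ¬ ((i = 1 ∧ j = 1) ∨ (i = 2 ∧ j = 1) ∨ (i = 3 ∧ j = 1) ∨
      (i = 3 ∧ j = 2)) → i • D.P.root a + j • D.P.root b ∉ Set.range D.P.root := by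
    rintro i j hi hj hij ⟨k, hk⟩
    exact hij (g2_pos Δ hI pba pab hi hj hk)
  have n0 : ∀ (i j : ℤ), 0 < i → 0 < j → i • D.P.root a + j • D.P.root b ≠ 0 := by
    intro i j hi hj h0
    have := hI.li i j h0
    omega
  have cm : ∀ (c e : D.idx) (i j i' j' : ℤ), D.P.root c = i • D.P.root a + j • D.P.root b →
      D.P.root e = i' • D.P.root a + j' • D.P.root b → 0 < i + i' → 0 < j + j' →
      ¬ ((i + i' = 1 ∧ j + j' = 1) ∨ (i + i' = 2 ∧ j + j' = 1) ∨ (i + i' = 3 ∧ j + j' = 1) ∨
        (i + i' = 3 ∧ j + j' = 2)) → ∀ {X : Over S} (x y : Γ(X.left, ⊤)),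
        V (v c) X x * V (v e) X y = V (v e) X y * V (v c) X x := by
    intro c e i j i' j' h1 h2 h3 h4 h5 X x y
    have h6 : D.P.root c + D.P.root e = (i + i') • D.P.root a + (j + j') • D.P.root b := by
      rw [h1, h2]; module
    exact comm_V C (by rw [h6]; exact n0 _ _ h3 h4) (by rw [h6]; exact nr _ _ h3 h4 h5) x y
  -- the pair `(3a+b, b)`
  have hI' : Ind D.P (D.P.reflectionPerm a b) b := by
    refine ⟨fun r s hrs => ?_, ?_⟩
    · rw [he] at hrs
      have := hI.li (3 * r) (r + s) (by rw [← hrs]; module)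
      omega
    · rintro ⟨k, hk⟩
      rw [he] at hk
      have h1 : D.P.root (D.P.reflectionPerm k k) = (3 : ℤ) • D.P.root a := by
        rw [D.P.root_reflectionPerm, D.P.reflection_apply_self, hk]; module
      have := mult_one Δ (by norm_num) h1
      omega
  have peb : D.P.pairing (D.P.reflectionPerm a b) b = -1 := by
    rw [pairing_eq he, pab, D.P.pairing_same]; norm_num
  have pbe : D.P.pairing b (D.P.reflectionPerm a b) = -1 := by
    rw [D.P.pairing_reflectionPerm, peb]
  have m1 := (C.root (D.P.reflectionPerm a (D.P.reflectionPerm b a))).1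
  have m2 := (C.root (D.P.reflectionPerm a b)).1
  have m3 := (C.root (D.P.reflectionPerm b (D.P.reflectionPerm a b))).1
  have key : ∀ (X : Over S) (z : Γ(X.left, ⊤)), z ^ 2 = z + 1 →
      (∀ x, V (v (D.P.reflectionPerm b a)) X x ∈ KK h X) ∧
      (∀ x, V (v (D.P.reflectionPerm a (D.P.reflectionPerm b a))) X x ∈ KK h X) ∧
      (∀ x, V (v (D.P.reflectionPerm a b)) X x ∈ KK h X) ∧
      ∀ x, V (v (D.P.reflectionPerm b (D.P.reflectionPerm a b))) X x ∈ KK h X := by
    intro X z hz
    have addD : GenAlg.Add (UD v σ a b X) := fun x y => by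
      simp only [UD, _root_.mul_add, V_add]
    have addE : GenAlg.Add (UE v σ a b X) := fun x y => by
      simp only [UE, neg_add, _root_.mul_add, V_add]
    have addF : GenAlg.Add (UF v σ a b X) := fun x y => by
      simp only [UF, neg_add, _root_.mul_add, V_add]
    obtain ⟨h1, h2, h3, h4⟩ := GenAlg.g2 (KK h X) z hz (A := fun x => V (v a) X x)
      (B := fun x => V (v b) X x) (C := UC v σ a b X) (D := UD v σ a b X) (E := UE v σ a b X)
      (F := UF v σ a b X) addD addE addF (ha X) (hb X)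
      (fun x y => (g2_pts C Δ hI pba pab X x y).1)
      (fun x y => cm _ _ _ _ _ _ hd he (by norm_num) (by norm_num) (by norm_num) _ _)
      (fun x y => cm _ _ _ _ _ _ hd hf (by norm_num) (by norm_num) (by norm_num) _ _)
      (fun x y => cm _ _ _ _ _ _ he hf (by norm_num) (by norm_num) (by norm_num) _ _)
      (fun x y => cm _ _ _ _ _ _ hb' hf (by norm_num) (by norm_num) (by norm_num) _ _)
      (fun x y => by
        have := a2_pts C Δ hI' pbe peb X ((σ a b : Γ(X.left, ⊤)) * (-x)) y
        rw [UE, UF]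
        refine this.trans ?_
        congr 1
        ring)
    have s3 : ∀ x, V (v (D.P.reflectionPerm a b)) X x ∈ KK h X := by
      refine of_sign (C.sgn a b) (P := fun g => g ∈ KK h X) fun x => ?_
      have := h3 (-x)
      rwa [UE, neg_neg] at this
    refine ⟨of_sign (C.sgn b a) (P := fun g => g ∈ KK h X) h1, ?_, s3, ?_⟩
    · refine of_sign (C.sgn a (D.P.reflectionPerm b a)) (P := fun g => g ∈ KK h X) fun x => ?_
      have := h2 ((σ b a : Γ(X.left, ⊤)) * x)
      rw [UD] at this
      have e : (σ b a : Γ(X.left, ⊤)) * ((σ b a : Γ(X.left, ⊤)) * x) = x := by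
        rcases C.sgn b a with h1 | h1 <;> simp [h1]
      rwa [e] at this
    · refine of_sign (C.sgn b (D.P.reflectionPerm a b)) (P := fun g => g ∈ KK h X) fun x => ?_
      have := h4 (-((σ a b : Γ(X.left, ⊤)) * x))
      rw [UF, neg_neg] at this
      have e : (σ a b : Γ(X.left, ⊤)) * ((σ a b : Γ(X.left, ⊤)) * x) = x := by
        rcases C.sgn a b with h1 | h1 <;> simp [h1]
      rwa [e] at this
  exact ⟨in_of_gold h fun X z hz => (key X z hz).1, in_of_gold h fun X z hz => (key X z hz).2.1,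
    in_of_gold h fun X z hz => (key X z hz).2.2.1, in_of_gold h fun X z hz => (key X z hz).2.2.2⟩

include C Δ in
/-- **rank two**, when `a` is not longer than `b` -/
lemma rank_two_aux (hI : Ind D.P a b) (hle : D.P.pairing b a ≤ D.P.pairing a b)
    (ha : In h (v a)) (hb : In h (v b)) {d : D.idx} {i j : ℤ} (hi : 0 < i) (hj : 0 < j)
    (hd : D.P.root d = i • D.P.root a + j • D.P.root b) : In h (v d) := by
  have := PinComb.isReduced Δ
  have hm := K214.ChainComb.mem_set (P := D.P) (a := a) (b := b) hI.li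
  have h1 := pairing_nonpos hI
  have h2 := pairing_nonpos hI.symm
  simp only [Set.mem_insert_iff, Set.mem_singleton_iff, Prod.mk.injEq] at hm
  have hcases : (D.P.pairing b a = 0) ∨ (D.P.pairing b a = -1 ∧ D.P.pairing a b = -1) ∨
      (D.P.pairing b a = -2 ∧ D.P.pairing a b = -1) ∨ (D.P.pairing b a = -3 ∧ D.P.pairing a b = -1) := by
    omega
  have eq_of : ∀ (c : D.idx) (i' j' : ℤ), D.P.root c = i' • D.P.root a + j' • D.P.root b → i = i' → j = j' →
      In h (v c) → In h (v d) := by
    rintro c i' j' hc rfl rfl hin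
    have : c = d := D.P.root.injective (by rw [hc, hd])
    rwa [← this]
  rcases hcases with h0 | ⟨pba, pab⟩ | ⟨pba, pab⟩ | ⟨pba, pab⟩
  · exact (a1a1_pos Δ hI h0 hi hj hd).elim
  all_goals
    have hc : D.P.root (D.P.reflectionPerm b a) = (1 : ℤ) • D.P.root a + (1 : ℤ) • D.P.root b := by
      have := refl_right (P := D.P) (a := a) (b := b) (d := a) (i := 1) (j := 0) (by module)
      rw [this, pab]; module
  · obtain ⟨e1, e2⟩ := a2_pos Δ hI pba pab hi hj hd
    exact eq_of _ 1 1 hc e1 e2 (case_a2 h C Δ hI pba pab ha hb)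
  · have he : D.P.root (D.P.reflectionPerm a b) = (2 : ℤ) • D.P.root a + (1 : ℤ) • D.P.root b := by
      have := refl_left (P := D.P) (a := a) (b := b) (d := b) (i := 0) (j := 1) (by module)
      rw [this, pba]; module
    obtain ⟨k1, k2⟩ := case_b2 h C Δ hI pba pab ha hb
    rcases b2_pos Δ hI pba pab hi hj hd with ⟨e1, e2⟩ | ⟨e1, e2⟩
    · exact eq_of _ 1 1 hc e1 e2 k1
    · exact eq_of _ 2 1 he e1 e2 k2
  · have hd' : D.P.root (D.P.reflectionPerm a (D.P.reflectionPerm b a)) =
        (2 : ℤ) • D.P.root a + (1 : ℤ) • D.P.root b := by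
      rw [refl_left hc, pba]; module
    have he : D.P.root (D.P.reflectionPerm a b) = (3 : ℤ) • D.P.root a + (1 : ℤ) • D.P.root b := by
      have := refl_left (P := D.P) (a := a) (b := b) (d := b) (i := 0) (j := 1) (by module)
      rw [this, pba]; module
    have hf : D.P.root (D.P.reflectionPerm b (D.P.reflectionPerm a b)) =
        (3 : ℤ) • D.P.root a + (2 : ℤ) • D.P.root b := by
      rw [refl_right he, pab]; module
    obtain ⟨k1, k2, k3, k4⟩ := case_g2 h C Δ hI pba pab ha hb
    rcases g2_pos Δ hI pba pab hi hj hd with ⟨e1, e2⟩ | ⟨e1, e2⟩ | ⟨e1, e2⟩ | ⟨e1, e2⟩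
    · exact eq_of _ 1 1 hc e1 e2 k1
    · exact eq_of _ 2 1 hd' e1 e2 k2
    · exact eq_of _ 3 1 he e1 e2 k3
    · exact eq_of _ 3 2 hf e1 e2 k4

include C Δ in
/-- **rank two** -/
theorem rank_two (hI : Ind D.P a b)
    (ha : In h (v a)) (hb : In h (v b)) {d : D.idx} {i j : ℤ} (hi : 0 < i) (hj : 0 < j)
    (hd : D.P.root d = i • D.P.root a + j • D.P.root b) : In h (v d) := by
  rcases le_total (D.P.pairing b a) (D.P.pairing a b) with hle | hle
  · exact rank_two_aux h C Δ hI hle ha hb hi hj hd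
  · exact rank_two_aux h C Δ hI.symm hle hb ha hj hi (by rw [hd, add_comm])

include C in
/-- the positive root groups -/
theorem isPos_in (hs : ∀ a ∈ Δ.support, In h (v a)) : ∀ (n : ℕ) (b : D.idx), Δ.IsPos b →
    (Δ.height b).toNat = n → In h (v b) := by
  have := PinComb.isReduced Δ
  intro n
  induction n using Nat.strongRecOn with
  | ind n ih =>
    intro b hb hn
    obtain ⟨j, hj, hj'⟩ := hb.exists_mem_support_pos_pairingIn
    rw [D.P.zero_lt_pairingIn_iff'] at hj'
    rcases eq_or_ne b j with rfl | hbj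
    · exact hs _ hj
    obtain ⟨k, hk⟩ := D.P.root_sub_root_mem_of_pairingIn_pos hj' hbj
    have hLI : K214.ChainComb.LI D.P j b := by
      have h1 : LinearIndependent ℤ ![D.P.root j, D.P.root b] := by
        refine RootPairing.IsReduced.linearIndependent D.P hbj.symm fun contra => ?_
        have h2 : Δ.height j = - Δ.height b := by
          have h3 : D.P.root j = D.P.root b + (-2 : ℤ) • D.P.root b := by rw [contra]; module
          rw [Δ.height_add_zsmul h3, smul_eq_mul]; ring
        have h3 := (Δ.isPos_iff).1 hb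
        have h4 := (Δ.isPos_iff).1 (RootPairing.Base.isPos_of_mem_support hj)
        omega
      exact LinearIndependent.pair_iff.mp h1
    obtain ⟨p, q, -, hpq⟩ := K214.ChainComb.chain hLI
    have hp : 1 ≤ p := by
      have := (hpq (-1)).1 ⟨k, by rw [hk]; module⟩
      omega
    obtain ⟨c, hc⟩ := (hpq (-p)).2 (by omega)
    have hcpos : Δ.IsPos c := hb.add_zsmul hbj hj hc
    have hht : Δ.height c = Δ.height b - p := by
      rw [Δ.height_add_zsmul hc, RootPairing.Base.height_one_of_mem_support hj, smul_eq_mul]; ring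
    have h3 := (Δ.isPos_iff).1 hb
    have h4 := (Δ.isPos_iff).1 hcpos
    have hInd : Ind D.P j c := by
      refine ⟨hLI.of_root hc, ?_⟩
      rintro ⟨e, he⟩
      have := (hpq (-p - 1)).1 ⟨e, by rw [he, hc]; module⟩
      omega
    refine rank_two h C Δ hInd (hs j hj) (ih _ ?_ c hcpos rfl) (i := p) (j := 1) (by omega) one_pos ?_
    · omega
    · rw [hc]; module

/-- **A subgroup containing the simple root groups contains the positive root groups.** -/
theorem main {S : Scheme.{u}} {G H : Over S} [GrpObj G] [GrpObj H]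
    (D : Red.Pinning G) (h : H ⟶ G) [IsMonHom h] [Mono h]
    (hsimple : ∀ a ∈ D.base.support, ∃ v : Red.Ga S ⟶ H, v ≫ h = D.u a) :
    ∀ b ∈ RedSub.posRoots D.P D.base, ∃ v : Red.Ga S ⟶ H, v ≫ h = D.u b := by
  intro b hb
  rcases isEmpty_or_nonempty S with hS | hS
  · have := K214.EmptyBase.subsingleton_hom (Red.Ga S) G
    exact ⟨1, Subsingleton.elim _ _⟩
  obtain ⟨v, vd, ⟨hroot, hvd, hrule, hconj⟩, hv⟩ := K214.ZModel.exists_chev D
  choose σ hσ hσ' using hconj
  have C : Chv D.toSplitRed v vd σ := ⟨hroot, hvd, hrule, hσ, hσ'⟩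
  have h1 := isPos_in h C D.base (fun a ha => (in_iff h).2 (by rw [hv a ha]; exact hsimple a ha)) _ b
    (Groth.Agent.RedSub.H633.PosRoots.mem_posRoots_iff_isPos D.base |>.1 hb) rfl
  exact K199.RootCmp.lift_of_isRootHom (withU D.toSplitRed v C.root) (a := b) (D.rootHom b) h
    ((in_iff h).1 h1)

end K193.SimpleGen
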