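import Groth.Agent.RedSub.H662.Coset
import Groth.Agent.RedSub.H368.NormalBot

/-!
# Covering by translates of the big cell under products of simple unipotent elements, on points

`E : PinCell P b K A`, `K` an algebraically closed field.
* `exists_um_nw_bor` : every point is in `U⁻ n_w B` for a word `w` in the simple roots;
* `exists_translate` : for nonzero `x a` (`a` simple) every point is in `u Ω`, `u` a product of elements
  `u_a(x a)`, `a` simple.
-/

set_option autoImplicit false
set_option linter.unusedSectionVars false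
universe u

namespace K193.UniCov

open Groth.Agent.Sga3B Groth.Agent.Sga3B.Cell Groth.Agent.Sga3B.Word
open Groth.Agent.RedSub.H638.WeylBase Groth.Agent.RedSub.H638.WeylCover
open Groth.Agent.RedSub.H662.Panel Groth.Agent.RedSub.H662.Coset

variable {idx M : Type} [Fintype idx] [AddCommGroup M] [Module.Free ℤ M]
    [Module.Finite ℤ M] {P : RootPairing idx ℤ M (Module.Dual ℤ M)} {b : P.Base}
    {K : Type u} [Field K] {A : Type u} [CommRing A] [Algebra K A] [PtGrp K A]
    (E : PinCell P b K A)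

/-- `n_a n_a` is a torus point -/
lemma nn_mul_nn {a : idx} (ha : a ∈ b.support) : ∃ t : TPt M K, E.nn a K * E.nn a K = E.i K t := by
  refine ⟨(TPt.cow (P.coroot a) (-1))⁻¹, ?_⟩
  have h3 : E.i K (TPt.cow (P.coroot a) (-1)) * (E.nn a K * E.nn a K) = 1 := by
    rw [← mul_assoc, ← nn_inv E (B := K) ha, inv_mul_cancel]
  rw [i_inv]
  exact eq_inv_of_mul_eq_one_right h3

/-- `(n_w)⁻¹ ∈ T n_{w⁻¹}` -/
lemma nw_inv {l : List idx} (hl : ∀ a ∈ l, a ∈ b.support) :
    ∃ t : TPt M K, (nw E K l)⁻¹ = E.i K t * nw E K l.reverse := by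
  induction l with
  | nil => exact ⟨1, by simp⟩
  | cons a l ih =>
    obtain ⟨t, ht⟩ := ih fun c hc => hl c (List.mem_cons_of_mem _ hc)
    have ha := hl a List.mem_cons_self
    obtain ⟨t', ht'⟩ := conj_nw_i E (l := l.reverse)
      (fun c hc => hl c (List.mem_cons_of_mem _ (List.mem_reverse.1 hc)))
      (TPt.cow (P.coroot a) (-1 : Kˣ))
    refine ⟨t * t', ?_⟩
    rw [nw_cons, mul_inv_rev, ht, nn_inv E (B := K) ha, List.reverse_cons, nw_append, map_mul, ← ht',
      nw_cons, nw_nil]
    group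

variable [IsAlgClosed K]

/-- every point is in `U⁻ n_w B⁺` -/
lemma exists_um_nw_bor (g : Pt K A K) : ∃ l : List idx, (∀ a ∈ l, a ∈ b.support) ∧
    ∃ v ∈ Um E K, ∃ β ∈ Bor E K, g = v * nw E K l * β := by
  obtain ⟨l₀, hl₀, hneg⟩ := Groth.Agent.RedSub.H368.NormalBot.exists_longest b
  obtain ⟨l, hl, b₁, ⟨u, hu, t, rfl⟩, b₂, hb₂, h⟩ := bruhat E (nw E K l₀ * g)
  obtain ⟨t₀, ht₀⟩ := nw_inv E hl₀
  obtain ⟨t₁, ht₁⟩ := conj_nw_inv_i (B := K) E hl₀ t
  have hl' : ∀ a ∈ l₀.reverse ++ l, a ∈ b.support := by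
    intro a ha
    rw [List.mem_append, List.mem_reverse] at ha
    exact ha.elim (hl₀ a) (hl a)
  obtain ⟨t₂, ht₂⟩ := conj_nw_inv_i (B := K) E hl' (t₁ * t₀)
  have hv : (nw E K l₀)⁻¹ * u * nw E K l₀ ∈ Um E K := by
    have : Up E K ≤ (Um E K).comap (MulAut.conj (nw E K l₀)⁻¹).toMonoidHom := by
      refine Up_le E fun c hc x => ?_
      obtain ⟨r, hr⟩ := conj_nw_inv E hl₀ c
      rw [Subgroup.mem_comap]
      have e : (MulAut.conj (nw E K l₀)⁻¹).toMonoidHom (E.uu c K x) =
          (nw E K l₀)⁻¹ * E.uu c K x * nw E K l₀ := by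
        simp [MulAut.conj_apply]
      rw [e, hr]
      exact uu_mem_Um E (hneg c hc) _
    have h1 := this hu
    rw [Subgroup.mem_comap] at h1
    simpa [MulAut.conj_apply] using h1
  refine ⟨l₀.reverse ++ l, hl', _, hv, E.i K t₂ * b₂, mul_mem (i_mem_Bor E _) hb₂, ?_⟩
  have h1 : g = (nw E K l₀)⁻¹ * (u * E.i K t * nw E K l * b₂) := by rw [← h]; group
  rw [h1, ← ht₂, nw_append]
  have h2 : E.i K (t₁ * t₀) * nw E K l₀.reverse = (nw E K l₀)⁻¹ * E.i K t := by
    rw [map_mul, mul_assoc, ← ht₀, ← ht₁]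
    group
  calc _ = ((nw E K l₀)⁻¹ * u * nw E K l₀) * ((nw E K l₀)⁻¹ * E.i K t) * nw E K l * b₂ := by group
    _ = ((nw E K l₀)⁻¹ * u * nw E K l₀) * (E.i K (t₁ * t₀) * nw E K l₀.reverse) * nw E K l * b₂ := by
        rw [h2]
    _ = _ := by group

/-- the inductive step -/
lemma exists_list (x : idx → K) (hx : ∀ a ∈ b.support, x a ≠ 0) :
    ∀ (n : ℕ) (l : List idx), l.length ≤ n → (∀ a ∈ l, a ∈ b.support) →
      ∀ v ∈ Um E K, ∀ β ∈ Bor E K, ∃ L : List idx, (∀ a ∈ L, a ∈ b.support) ∧
        InC E (((L.map fun a => E.uu a K (x a)).prod)⁻¹ * (v * nw E K l * β)) := by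
  intro n
  induction n with
  | zero =>
    intro l hn hl v hv β hβ
    have : l = [] := List.eq_nil_of_length_eq_zero (Nat.le_zero.1 hn)
    subst this
    exact ⟨[], by simp, (inC_iff E).2 ⟨v, hv, β, hβ, by simp⟩⟩
  | succ n ih =>
    intro l hn hl v hv β hβ
    match l, hn, hl with
    | [], _, _ => exact ⟨[], by simp, (inC_iff E).2 ⟨v, hv, β, hβ, by simp⟩⟩
    | a :: l, hn, hl =>
      have ha := hl a List.mem_cons_self
      have hl' : ∀ c ∈ l, c ∈ b.support := fun c hc => hl c (List.mem_cons_of_mem _ hc)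
      have hln : l.length ≤ n := by simpa using hn
      by_cases hpos : b.IsPos ((wp P l).symm a)
      · -- the length goes down by one
        obtain ⟨c, rfl⟩ := hv
        obtain ⟨w, hw, hwc⟩ := exists_split_Wm E ha c
        set z := c (P.reflectionPerm a a) with hz
        obtain ⟨r, hr⟩ := E.nn_conj ha a
        -- move `u_{-a}` through `n_a`
        have hmv : ∀ y : K, ∃ y' : K, E.uu (P.reflectionPerm a a) K y * E.nn a K = E.nn a K * E.uu a K y' := by
          intro y
          refine ⟨((r⁻¹ : Kˣ) : K) * y, ?_⟩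
          have h1 := hr (B := K) (((r⁻¹ : Kˣ) : K) * y)
          have h2 : (algebraMap K K) (r : K) * (((r⁻¹ : Kˣ) : K) * y) = y := by
            simp
          rw [h2] at h1
          rw [← h1]; group
        obtain ⟨y₁, hy₁⟩ := hmv z
        obtain ⟨r₁, hr₁⟩ := conj_nw_inv E hl' a
        have hmv2 : ∀ y : K, ∃ β' ∈ Bor E K, E.uu a K y * nw E K l = nw E K l * β' := by
          intro y
          refine ⟨_, uu_mem_Bor E hpos (algebraMap K K r₁ * y), ?_⟩
          rw [← hr₁]; group
        obtain ⟨β₁, hβ₁, e₁⟩ := hmv2 y₁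
        have hg : negP E c * nw E K (a :: l) * β = w * E.nn a K * nw E K l * (β₁ * β) := by
          rw [hwc, nw_cons]
          calc _ = w * (E.uu (P.reflectionPerm a a) K z * E.nn a K) * nw E K l * β := by group
            _ = w * E.nn a K * (E.uu a K y₁ * nw E K l) * β := by rw [hy₁]; group
            _ = _ := by rw [e₁]; group
        -- multiply by `u_a(-x)`
        obtain ⟨s, hs⟩ := exists_uu_eq E ha
        have hx0 : -(x a) ≠ 0 := neg_ne_zero.2 (hx a ha)
        set ξ : Kˣ := Units.mk0 _ hx0 with hξ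
        have hu := hs (B := K) ξ
        have hξv : (ξ : K) = -(x a) := rfl
        obtain ⟨y₂, hy₂⟩ := hmv ((ξ⁻¹ : Kˣ) : K)
        obtain ⟨β₂, hβ₂, e₂⟩ := hmv2 y₂
        obtain ⟨t₁, ht₁⟩ := nn_mul_nn E ha
        obtain ⟨t₂, ht₂⟩ := conj_nw_inv_i (B := K) E hl' (TPt.cow (P.coroot a) ξ * t₁)
        have hw' := conj_uu_mem_Wm E ha hw (ξ : K)
        have hfin : (E.uu a K (x a))⁻¹ * (negP E c * nw E K (a :: l) * β) =
            ((E.uu a K ξ * w * (E.uu a K ξ)⁻¹) *
              E.uu (P.reflectionPerm a a) K (algebraMap K K s * ((ξ⁻¹ : Kˣ) : K))) * nw E K l *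
              (E.i K t₂ * (β₂ * (β₁ * β))) := by
          rw [hg, ← E.uu_neg, ← hξv, ← ht₂, map_mul]
          calc E.uu a K ξ * (w * E.nn a K * nw E K l * (β₁ * β))
              = (E.uu a K ξ * w * (E.uu a K ξ)⁻¹) * E.uu a K ξ * E.nn a K * nw E K l * (β₁ * β) := by group
            _ = (E.uu a K ξ * w * (E.uu a K ξ)⁻¹) *
                  (E.uu (P.reflectionPerm a a) K (algebraMap K K s * ((ξ⁻¹ : Kˣ) : K)) *
                    E.i K (TPt.cow (P.coroot a) ξ) * E.nn a K *
                    (E.uu (P.reflectionPerm a a) K ((ξ⁻¹ : Kˣ) : K) * E.nn a K)) * nw E K l * (β₁ * β) := by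
                nth_rw 3 [hu]; group
            _ = (E.uu a K ξ * w * (E.uu a K ξ)⁻¹) *
                  (E.uu (P.reflectionPerm a a) K (algebraMap K K s * ((ξ⁻¹ : Kˣ) : K)) *
                    E.i K (TPt.cow (P.coroot a) ξ) * (E.nn a K * E.nn a K)) * (E.uu a K y₂ * nw E K l) *
                    (β₁ * β) := by rw [hy₂]; group
            _ = _ := by rw [ht₁, e₂]; group
        obtain ⟨L, hL, hC⟩ := ih l hln hl' _
          (mul_mem (Wm_le_Um E ha hw') (uu_mem_Um E (not_isPos_neg ha)
            (algebraMap K K s * ((ξ⁻¹ : Kˣ) : K)))) _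
          (mul_mem (i_mem_Bor E t₂) (mul_mem hβ₂ (mul_mem hβ₁ hβ)))
        refine ⟨a :: L, ?_, ?_⟩
        · intro d hd
          rcases List.mem_cons.1 hd with rfl | hd
          · exact ha
          · exact hL d hd
        · rw [← hfin] at hC
          rw [List.map_cons, List.prod_cons, mul_inv_rev, mul_assoc]
          exact hC
      · -- the word can be shortened
        obtain ⟨l₁, hl₁, hlen, t, ht⟩ := exists_shorten E (m := []) (a := a) (l' := l) hl hpos
        obtain ⟨t', ht'⟩ := conj_nw_inv_i (B := K) E hl₁ t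
        have hlen' : l₁.length ≤ n := by
          simp only [List.nil_append, List.length_cons] at hlen
          omega
        obtain ⟨L, hL, hC⟩ := ih l₁ hlen' hl₁ v hv (E.i K t' * β) (mul_mem (i_mem_Bor E t') hβ)
        refine ⟨L, hL, ?_⟩
        have h1 : v * nw E K (a :: l) * β = v * nw E K l₁ * (E.i K t' * β) := by
          rw [List.nil_append] at ht
          rw [ht, ← ht']
          group
        rw [h1]
        exact hC

/-- **Covering by products of simple unipotent elements.** -/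
theorem exists_translate (x : idx → K) (hx : ∀ a ∈ b.support, x a ≠ 0) (g : Pt K A K) :
    ∃ L : List idx, (∀ a ∈ L, a ∈ b.support) ∧
      InC E (((L.map fun a => E.uu a K (x a)).prod)⁻¹ * g) := by
  obtain ⟨l, hl, v, hv, β, hβ, rfl⟩ := exists_um_nw_bor E g
  exact exists_list E x hx _ l le_rfl hl v hv β hβ

/-- **Rank one.** If all roots are `± a`, then a point is in `Ω` or in `u_a(x) Ω`. -/
theorem rank_one {a : idx} (hR : ∀ c : idx, c = a ∨ c = P.reflectionPerm a a) (ha : b.IsPos a)
    {x : K} (hx : x ≠ 0) (g : Pt K A K) : InC E g ∨ InC E ((E.uu a K x)⁻¹ * g) := by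
  have hsup : ∀ c ∈ b.support, c = a := by
    intro c hc
    rcases hR c with h | h
    · exact h
    · have := RootPairing.Base.isPos_of_mem_support hc
      rw [h] at this
      exact absurd ha (isPos_neg_iff.1 this)
  by_cases hsupp : a ∈ b.support
  swap
  · -- no simple roots
    exfalso
    have hemp : b.support = ∅ := by
      ext c
      constructor
      · intro hc
        have := hsup c hc
        subst this
        exact absurd hc hsupp
      · intro h; simp at h
    have h1 := (b.root_mem_or_neg_mem a)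
    rw [hemp] at h1
    simp only [Finset.coe_empty, Set.image_empty, AddSubmonoid.closure_empty, AddSubmonoid.mem_bot,
      neg_eq_zero, or_self] at h1
    exact P.ne_zero a h1
  obtain ⟨l, hl, y, t, rfl⟩ := Groth.Agent.RedSub.H638.WeylCover.exists_translate E g
  have hla : ∀ c ∈ l, c = a := fun c hc => hsup c (hl c hc)
  -- `n_l` is in `T` or in `n_a T`
  obtain ⟨s, hs⟩ : ∃ s : TPt M K, nw E K l = E.i K s ∨ nw E K l = E.i K s * E.nn a K := by
    clear hl
    induction l with
    | nil => exact ⟨1, Or.inl (by simp)⟩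
    | cons c l ih =>
      obtain ⟨s, hs⟩ := ih fun c hc => hla c (List.mem_cons_of_mem _ hc)
      have hc := hla c List.mem_cons_self
      subst hc
      have h1 := nn_conj_i E (B := K) hsupp s
      obtain ⟨t₁, ht₁⟩ := nn_mul_nn E hsupp
      rcases hs with hs | hs
      · exact ⟨_, Or.inr (by rw [nw_cons, hs, ← h1]; group)⟩
      · refine ⟨(s * (TPt.cow (P.coroot c) (s (Multiplicative.ofAdd (P.root c))))⁻¹) * t₁, Or.inl ?_⟩
        rw [nw_cons, hs, map_mul (E.i K), ← ht₁, ← h1]
        group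
  have hcell : ∃ (c : idx → K), ∃ β ∈ Bor E K, E.cell y t = negP E c * β := by
    obtain ⟨u, ⟨c, rfl⟩, v, hv, h⟩ := (inC_iff E).1 ⟨y, t, rfl⟩
    exact ⟨c, v, hv, h⟩
  obtain ⟨c, β, hβ, hc⟩ := hcell
  rcases hs with hs | hs
  · left
    rw [hs]
    exact InC.i_mul E ⟨y, t, rfl⟩ s
  · obtain ⟨r, hr⟩ := E.nn_conj hsupp a
    obtain ⟨r', hr'⟩ := E.nn_conj hsupp (P.reflectionPerm a a)
    rw [refl_refl] at hr'
    by_cases h0 : InC E (nw E K l * E.cell y t)
    · exact Or.inl h0
    · right
      -- `n_a u_{-a}(c) ...` not in the cell means `c = 0`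
      rw [hs] at h0 ⊢
      rw [mul_assoc, inC_i_mul] at h0
      have e0 := inC_uu_nn_mul E hsupp (r := r') (fun x => hr' x) (0 : K) c hβ
      rw [E.uu_zero, one_mul, zero_add, ← hc] at e0
      have hc0 : algebraMap K K r' * c (P.reflectionPerm a a) = 0 := by
        by_contra hne
        exact h0 (e0.2 hne)
      -- conjugate the torus part away
      have e1 := inC_uu_nn_mul E hsupp (r := r') (fun x => hr' x)
        (TPt.ch (P.root a) s⁻¹ * (-x)) c hβ
      rw [hc0, add_zero, ← hc] at e1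
      have h2 : InC E (E.uu a K (TPt.ch (P.root a) s⁻¹ * (-x)) * E.nn a K * E.cell y t) := by
        rw [e1]
        refine mul_ne_zero ?_ (neg_ne_zero.2 hx)
        exact Units.ne_zero _
      have h3 : (E.uu a K x)⁻¹ * (E.i K s * E.nn a K * E.cell y t) =
          E.i K s * (E.uu a K (TPt.ch (P.root a) s⁻¹ * (-x)) * E.nn a K * E.cell y t) := by
        rw [← E.rel, ← E.uu_neg, i_inv]
        group
      rw [h3]
      exact InC.i_mul E h2 s

end K193.UniCov
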