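import Groth.Agent.RedSub.K193.PinCh
import Groth.Agent.RedSub.K193.UniCov
import Groth.Agent.RedSub.H636.SchemeCov

/-!
# Covering of a split reductive group by translates of the big cell under unipotent sections
-/

set_option autoImplicit false
universe u

open CategoryTheory MonoidalCategory CartesianMonoidalCategory MonObj GrpObj AlgebraicGeometry TensorProduct

namespace K193.UniCovSch

open Groth.Agent.Sga3B Groth.Agent.Sga3B.Cell Groth.Agent.Sga3B.PinMod Groth.Agent.Sga3B.GaPts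
open Groth.Agent.RedSub.H636.CellPts Groth.Agent.RedSub.H636.SchemeCov
open Groth.Agent.RedSub.H662.Panel K193.PinCh

variable {S : Scheme.{u}} {G : Over S} [GrpObj G] (D : Red.SplitRed G) (b : D.P.Base)

variable {D b} in
/-- a geometric point whose translate lies in the big cell -/
theorem mem_range {n m : ℕ} {eneg : Fin n → D.idx} {epos : Fin m → D.idx}
    (hneg : RedSub.Enumerates (RedSub.negRoots D.P b) eneg)
    (hpos : RedSub.Enumerates (RedSub.posRoots D.P b) epos)
    {R : Type u} [CommRing R] {s : Spec (CommRingCat.of R) ⟶ S} (Q : PinChart D b s)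
    {B : Type u} [CommRing B] [Algebra R B] (w : 𝟙_ (Over S) ⟶ G) (ξ : tB s B ⟶ G)
    (h : InC Q.E ((secPt Q.c B w)⁻¹ * (Q.c.pts B).symm ξ)) (q : ↥(tB s B).left) :
    ξ.left.base q ∈ Set.range ((toUnit _ ≫ w) * RedSub.cellMap D eneg epos).left.base := by
  obtain ⟨Z, hZ⟩ := (Q.inCell_iff hneg hpos _).1 h
  have h1 : ξ = Z ≫ ((toUnit _ ≫ w) * RedSub.cellMap D eneg epos) := by
    rw [MonObj.comp_mul, hZ, map_mul, map_inv, MulEquiv.apply_symm_apply, ← Category.assoc]
    have h2 : Z ≫ toUnit _ = toUnit _ := toUnit_unique _ _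
    rw [h2, pts_secPt, mul_inv_cancel_left]
  refine ⟨Z.left.base q, ?_⟩
  rw [h1]
  rfl

/-- the value of a section of `𝔾_a` with unit coordinate -/
lemma exists_val (x : 𝟙_ (Over S) ⟶ Red.Ga S) (hx : IsUnit (Red.gaFn x)) {K : Type u} [Field K]
    (s : Spec (CommRingCat.of K) ⟶ S) :
    ∃ y : K, y ≠ 0 ∧ toUnit (tB s K) ≫ x = gaP s y := by
  obtain ⟨y, hy⟩ := exists_gaP (s := s) (toUnit (tB s K) ≫ x)
  refine ⟨y, ?_, hy⟩
  rintro rfl
  have h1 := congrArg Red.gaFn hy
  rw [gaFn_gaPt, gaFn_comp] at h1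
  have h2 := hx.map (toUnit (tB s K)).left.appTop.hom
  have h3 : (toUnit (tB s K)).left.appTop.hom (Red.gaFn x) = fnOf s (0 : K) := h1
  rw [h3] at h2
  have h4 : fnOf s (0 : K) = 0 := map_zero _
  have h5 : fnOf s (1 : K) = 1 := map_one _
  rw [h4, isUnit_zero_iff] at h2
  have h6 : fnOf s (0 : K) = fnOf s (1 : K) := by rw [h4, h5, h2]
  exact zero_ne_one (fnOf_injective s h6)

/-- **Covering.** -/
theorem cover {n m : ℕ} (eneg : Fin n → D.idx) (epos : Fin m → D.idx)
    (hneg : RedSub.Enumerates (RedSub.negRoots D.P b) eneg)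
    (hpos : RedSub.Enumerates (RedSub.posRoots D.P b) epos)
    (x : D.idx → (𝟙_ (Over S) ⟶ Red.Ga S)) (hx : ∀ a ∈ b.support, IsUnit (Red.gaFn (x a)))
    (p : ↥G.left) :
    ∃ w ∈ Submonoid.closure {g : 𝟙_ (Over S) ⟶ G | ∃ a ∈ b.support, g = x a ≫ D.u a},
      p ∈ Set.range ((toUnit _ ≫ w) * RedSub.cellMap D eneg epos).left.base := by
  classical
  obtain ⟨K, _, _, s, ξ, q, hq⟩ := exists_geomPoint (G := G) p
  obtain ⟨Q⟩ := exists_pinChart D b s
  choose y hy using fun a : {a // a ∈ b.support} => exists_val (x a.1) (hx a.1 a.2) s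
  let y' : D.idx → K := fun a => if h : a ∈ b.support then y ⟨a, h⟩ else 0
  have hy' : ∀ a ∈ b.support, y' a ≠ 0 ∧ toUnit (tB s K) ≫ x a = gaP s (y' a) := by
    intro a ha
    have h1 : y' a = y ⟨a, ha⟩ := dif_pos ha
    rw [h1]
    exact hy ⟨a, ha⟩
  obtain ⟨L, hL, hC⟩ := K193.UniCov.exists_translate Q.E y' (fun a ha => (hy' a ha).1)
    ((Q.c.pts K).symm ξ)
  refine ⟨(L.map fun a => x a ≫ D.u a).prod, ?_, ?_⟩
  · apply Submonoid.list_prod_mem
    intro g hg
    obtain ⟨a, ha, rfl⟩ := List.mem_map.1 hg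
    exact Submonoid.subset_closure ⟨a, hL a ha, rfl⟩
  · rw [← hq]
    refine mem_range hneg hpos Q _ ξ ?_ q
    have h1 : secPt Q.c K (L.map fun a => x a ≫ D.u a).prod = (L.map fun a => Q.E.uu a K (y' a)).prod := by
      rw [secPt_prod, List.map_map]
      congr 1
      apply List.map_congr_left
      intro a ha
      have hpos : b.IsPos a := RootPairing.Base.isPos_of_mem_support (hL a ha)
      apply (Q.c.pts K).injective
      rw [Function.comp_apply, pts_secPt, Q.hu, Q.hε a hpos, Units.val_one, map_one, _root_.one_mul,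
        pts_uu_gaP, ← (hy' a (hL a ha)).2, Category.assoc]
    rw [h1]
    exact hC

/-- **Rank one.** -/
theorem cover_rank_one {n m : ℕ} (eneg : Fin n → D.idx) (epos : Fin m → D.idx)
    (hneg : RedSub.Enumerates (RedSub.negRoots D.P b) eneg)
    (hpos : RedSub.Enumerates (RedSub.posRoots D.P b) epos)
    (a : D.idx) (ha : b.IsPos a) (hR : ∀ c : D.idx, c = a ∨ c = D.P.reflectionPerm a a)
    (x : 𝟙_ (Over S) ⟶ Red.Ga S) (hx : IsUnit (Red.gaFn x)) (p : ↥G.left) :
    p ∈ Set.range (RedSub.cellMap D eneg epos).left.base ∨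
      p ∈ Set.range ((toUnit _ ≫ x ≫ D.u a) * RedSub.cellMap D eneg epos).left.base := by
  obtain ⟨K, _, _, s, ξ, q, hq⟩ := exists_geomPoint (G := G) p
  obtain ⟨Q⟩ := exists_pinChart D b s
  obtain ⟨y, hy0, hy⟩ := exists_val x hx s
  rcases K193.UniCov.rank_one Q.E hR ha hy0 ((Q.c.pts K).symm ξ) with h | h
  · left
    have h1 := mem_range hneg hpos Q (1 : 𝟙_ (Over S) ⟶ G) ξ (by
      rw [secPt_one, _root_.inv_one, _root_.one_mul]; exact h) q
    rw [MonObj.comp_one, _root_.one_mul, hq] at h1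
    exact h1
  · right
    rw [← hq]
    refine mem_range hneg hpos Q _ ξ ?_ q
    have h1 : secPt Q.c K (x ≫ D.u a) = Q.E.uu a K y := by
      apply (Q.c.pts K).injective
      rw [pts_secPt, Q.hu, Q.hε a ha, Units.val_one, map_one, _root_.one_mul,
        pts_uu_gaP, ← hy, Category.assoc]
    rw [h1]
    exact h

end K193.UniCovSch
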